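import Mathlib.CategoryTheory.Sites.CoverPreserving
import Mathlib.CategoryTheory.Sites.LocallyInjective
import Mathlib.CategoryTheory.Sites.LocallyBijective

/-!
# "Locally on `U`" predicates, and the local compatibility forced by continuity
-/

universe w w' v v₁ u u₁

open CategoryTheory Opposite

namespace Groth.Agent.FibSiteLib

variable {C : Type u} [Category.{v} C] (J : GrothendieckTopology C)

/-- `p` holds for all arrows of some covering sieve of `U`. -/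
def Loc (U : C) (p : ∀ W : C, (W ⟶ U) → Prop) : Prop :=
  ∃ S ∈ J U, ∀ (W : C) (g : W ⟶ U), S.arrows g → p W g

variable {J} {U : C} {p q : ∀ W : C, (W ⟶ U) → Prop}

theorem Loc.of_forall (h : ∀ W g, p W g) : Loc J U p :=
  ⟨⊤, J.top_mem U, fun W g _ => h W g⟩

theorem Loc.mono (h : Loc J U p) (hpq : ∀ W g, p W g → q W g) : Loc J U q :=
  let ⟨S, hS, hp⟩ := h
  ⟨S, hS, fun W g hg => hpq W g (hp W g hg)⟩

theorem Loc.bind (h : Loc J U p)
    (hpq : ∀ W g, p W g → Loc J W (fun W' g' => q W' (g' ≫ g))) : Loc J U q := by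
  obtain ⟨S, hS, hp⟩ := h
  choose T hT hq using fun W g hg => hpq W g (hp W g hg)
  refine ⟨Sieve.bind S.arrows (fun W g hg => T W g hg),
    J.bind_covering hS (fun W g hg => hT W g hg), ?_⟩
  rintro W g ⟨Z, g', g'', hg'', hg', rfl⟩
  exact hq Z g'' hg'' W g' hg'

theorem Loc.pullback (h : Loc J U p) {V : C} (f : V ⟶ U) :
    Loc J V (fun W g => p W (g ≫ f)) :=
  let ⟨S, hS, hp⟩ := h
  ⟨S.pullback f, J.pullback_stable f hS, fun W g hg => hp W (g ≫ f) hg⟩

theorem Loc.inter (h : Loc J U p) (h' : Loc J U q) : Loc J U (fun W g => p W g ∧ q W g) :=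
  let ⟨S, hS, hp⟩ := h
  let ⟨T, hT, hq⟩ := h'
  ⟨S ⊓ T, J.intersection_covering hS hT, fun W g hg => ⟨hp W g hg.1, hq W g hg.2⟩⟩

theorem mem_of_loc {S : Sieve U} (h : Loc J U (fun _ g => S.arrows g)) : S ∈ J U :=
  let ⟨T, hT, hp⟩ := h
  J.superset_covering (fun _ g hg => hp _ g hg) hT

theorem loc_of_mem {S : Sieve U} (h : S ∈ J U) : Loc J U (fun _ g => S.arrows g) :=
  ⟨S, h, fun _ _ hg => hg⟩

theorem Loc.eq_of_isSeparated {Q : Cᵒᵖ ⥤ Type w} (hQ : Presieve.IsSeparated J Q) {x y : Q.obj (op U)}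
    (h : Loc J U (fun _ g => Q.map g.op x = Q.map g.op y)) : x = y :=
  let ⟨S, hS, hp⟩ := h
  (hQ S hS).ext fun _ g hg => hp _ g hg

section Continuous

variable {X : Type u} [Category.{v} X] (K : GrothendieckTopology X) (G : X ⥤ C)

variable {Z : X} (R : Sieve Z)

/-- Generators of the universal presheaf receiving a family on `R` along `G`. -/
def PreEl (W : C) : Type max u v :=
  Σ V : X, { r : V ⟶ Z // R.arrows r } × (W ⟶ G.obj V)

inductive PreRel (W : C) : PreEl G R W → PreEl G R W → Prop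
  | mk {V V' : X} (m : V ⟶ V') (r : V' ⟶ Z) (hr : R.arrows r) (h : W ⟶ G.obj V) :
      PreRel W ⟨V', ⟨r, hr⟩, h ≫ G.map m⟩ ⟨V, ⟨m ≫ r, R.downward_closed hr m⟩, h⟩

/-- The universal presheaf receiving a family on `R` along `G`. -/
def univPsh : Cᵒᵖ ⥤ Type max u v where
  obj W := Quot (PreRel G R W.unop)
  map {W W'} g := ↾(Quot.map (fun e => ⟨e.1, e.2.1, g.unop ≫ e.2.2⟩) (by
    rintro _ _ ⟨m, r, hr, h⟩
    simpa only [Category.assoc] using PreRel.mk (G := G) (R := R) m r hr (g.unop ≫ h)))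
  map_id W := by
    ext x
    induction x using Quot.ind with
    | mk e => exact congrArg (Quot.mk _) (by obtain ⟨V, r, h⟩ := e; simp <;> rfl)
  map_comp g g' := by
    ext x
    induction x using Quot.ind with
    | mk e => exact congrArg (Quot.mk _) (by obtain ⟨V, r, h⟩ := e; simp <;> rfl)

/-- If `G` is continuous, two arrows into the image of a covering sieve with the same composite
give locally equal restrictions of any compatible family. -/
theorem loc_eq_of_continuous [G.IsContinuous K J] (hR : R ∈ K Z) (Q : Cᵒᵖ ⥤ Type w)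
    (z : ∀ (V : X) (r : V ⟶ Z), R.arrows r → Q.obj (op (G.obj V)))
    (hz : ∀ (V V' : X) (m : V ⟶ V') (r : V' ⟶ Z) (hr : R.arrows r),
      z V (m ≫ r) (R.downward_closed hr m) = Q.map (G.map m).op (z V' r hr))
    {W : C} {V₁ V₂ : X} {r₁ : V₁ ⟶ Z} {r₂ : V₂ ⟶ Z} (hr₁ : R.arrows r₁) (hr₂ : R.arrows r₂)
    (h₁ : W ⟶ G.obj V₁) (h₂ : W ⟶ G.obj V₂) (e : h₁ ≫ G.map r₁ = h₂ ≫ G.map r₂) :
    Loc J W (fun _ g => Q.map (g ≫ h₁).op (z V₁ r₁ hr₁) = Q.map (g ≫ h₂).op (z V₂ r₂ hr₂)) := by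
  let Q₁ := univPsh G R
  let ev : ∀ (W : C), Quot (PreRel G R W) → Q.obj (op W) := fun W =>
    Quot.lift (fun e => Q.map e.2.2.op (z e.1 e.2.1.1 e.2.1.2)) (by
      rintro _ _ ⟨m, r, hr, h⟩
      dsimp only
      rw [hz _ _ m r hr, op_comp, Functor.map_comp_apply])
  let b := J.sheafify Q₁
  have hb : Presieve.IsSheaf J b :=
    (isSheaf_iff_isSheaf_of_type _ _).1 (J.sheafify_isSheaf Q₁)
  let η := J.toSheafify Q₁
  let y : Presieve.FamilyOfElements (G.op ⋙ b) R.arrows := fun V r hr =>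
    η.app (op (G.obj V)) (Quot.mk _ ⟨V, ⟨r, hr⟩, 𝟙 _⟩)
  have hy : y.Compatible := by
    rw [Presieve.compatible_iff_sieveCompatible]
    intro V V' r m hr
    refine Eq.trans ?_ (NatTrans.naturality_apply η (G.map m).op
      (Quot.mk (PreRel G R (G.obj V)) ⟨V, ⟨r, hr⟩, 𝟙 _⟩))
    refine congrArg (η.app (op (G.obj V'))) (Eq.symm ?_)
    refine Eq.trans ?_ (Quot.sound (PreRel.mk (G := G) (R := R) m r hr (𝟙 _)))
    exact congrArg (Quot.mk _) (by simp <;> rfl)
  obtain ⟨s, hs, -⟩ := G.op_comp_isSheaf_of_isSheaf_type K hb R hR y hy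
  have key : ∀ {V : X} {r : V ⟶ Z} (hr : R.arrows r) (h : W ⟶ G.obj V),
      η.app (op W) (Quot.mk _ ⟨V, ⟨r, hr⟩, h⟩) = b.map (h ≫ G.map r).op s := by
    intro V r hr h
    have h2 : b.map (G.map r).op s = y r hr := hs r hr
    rw [op_comp, Functor.map_comp_apply, h2]
    refine Eq.trans ?_ (NatTrans.naturality_apply η h.op
      (Quot.mk (PreRel G R (G.obj V)) ⟨V, ⟨r, hr⟩, 𝟙 _⟩))
    exact congrArg (η.app (op W)) (congrArg (Quot.mk _) (by simp <;> rfl))
  let q₁ : Q₁.obj (op W) := Quot.mk _ ⟨V₁, ⟨r₁, hr₁⟩, h₁⟩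
  let q₂ : Q₁.obj (op W) := Quot.mk _ ⟨V₂, ⟨r₂, hr₂⟩, h₂⟩
  have hη : η.app (op W) q₁ = η.app (op W) q₂ := by
    rw [key hr₁ h₁, key hr₂ h₂, e]
  refine (loc_of_mem (Presheaf.equalizerSieve_mem J η q₁ q₂ hη)).mono fun W' g hg => ?_
  exact congrArg (ev W') hg

end Continuous

end Groth.Agent.FibSiteLib
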