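import Groth.Prelude.Def_FibSite
import Groth.Agent.Lib.FibSite.Loc
import Mathlib.CategoryTheory.Sites.InducedTopology

/-!
# The total topology of a (pre-)fibred site
-/

universe w v₃ u₃ v₂ u₂ v₁ u₁

open CategoryTheory CategoryTheory.Limits Opposite Pseudofunctor Pseudofunctor.CoGrothendieck
open CategoryTheory.Bicategory

namespace Groth.Agent.FibSiteLib

variable {𝒮 : Type u₁} [Category.{v₁} 𝒮] {F : Pseudofunctor (LocallyDiscrete 𝒮ᵒᵖ) Cat.{v₂, u₂}}

/-- A morphism of the total category from its two components. -/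
abbrev hom {S : 𝒮} {V : F.obj ⟨op S⟩} {X : ∫ᶜ F} (f : S ⟶ X.base)
    (φ : V ⟶ (FibSite.invImage F f).obj X.fiber) : (ι F S).obj V ⟶ X := ⟨f, φ⟩

theorem exists_hom {S : 𝒮} {V : F.obj ⟨op S⟩} {X : ∫ᶜ F} (h : (ι F S).obj V ⟶ X) :
    ∃ f φ, h = hom f φ :=
  ⟨h.base, h.fiber, rfl⟩

theorem exists_homι {S T : 𝒮} {W : F.obj ⟨op T⟩} {V : F.obj ⟨op S⟩}
    (h : (ι F T).obj W ⟶ (ι F S).obj V) :
    ∃ (f : T ⟶ S) (φ : W ⟶ (FibSite.invImage F f).obj V),
      h = hom (X := (ι F S).obj V) f φ :=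
  ⟨h.base, h.fiber, rfl⟩

theorem hom_injective {S : 𝒮} {V : F.obj ⟨op S⟩} {X : ∫ᶜ F} {f : S ⟶ X.base}
    {φ φ' : V ⟶ (FibSite.invImage F f).obj X.fiber} (h : hom f φ = hom f φ') : φ = φ' :=
  eq_of_heq (CoGrothendieck.Hom.mk.inj h).2

theorem hom_base_inj {S : 𝒮} {V : F.obj ⟨op S⟩} {X : ∫ᶜ F} {f f' : S ⟶ X.base}
    {φ : V ⟶ (FibSite.invImage F f).obj X.fiber} {φ' : V ⟶ (FibSite.invImage F f').obj X.fiber}
    (h : hom f φ = hom f' φ') : f = f' :=
  (CoGrothendieck.Hom.mk.inj h).1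

set_option backward.defeqAttrib.useBackward true in
set_option backward.isDefEq.respectTransparency false in
/-- Composing a vertical morphism with any morphism. -/
theorem vert_hom {S : 𝒮} {W V : F.obj ⟨op S⟩} (r : W ⟶ V) {X : ∫ᶜ F} (f : S ⟶ X.base)
    (φ : V ⟶ (FibSite.invImage F f).obj X.fiber) :
    (ι F S).map r ≫ hom f φ = hom f (r ≫ φ) := by
  ext
  · exact Category.id_comp f
  · simp [hom, ι, F.mapComp_id_right_inv_app, Strict.rightUnitor_eqToIso, ← NatTrans.naturality_assoc,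
      ← Cat.Hom₂.comp_app, PrelaxFunctor.map₂_eqToHom]

set_option backward.defeqAttrib.useBackward true in
set_option backward.isDefEq.respectTransparency false in
/-- Composing any morphism with a vertical morphism. -/
theorem hom_vert {S T : 𝒮} {W : F.obj ⟨op T⟩} {Z U : F.obj ⟨op S⟩} (f : T ⟶ S)
    (φ : W ⟶ (FibSite.invImage F f).obj Z) (r : Z ⟶ U) :
    hom (X := (ι F S).obj Z) f φ ≫ (ι F S).map r =
      hom (X := (ι F S).obj U) f (φ ≫ (FibSite.invImage F f).map r) := by
  ext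
  · exact Category.comp_id f
  · simp [hom, ι, F.mapComp_id_left_inv_app, Strict.leftUnitor_eqToIso, ← Functor.map_comp_assoc,
      ← Cat.Hom₂.comp_app, PrelaxFunctor.map₂_eqToHom]

/-- The cartesian morphism `f^* U ⟶ U`. -/
abbrev cart {S : 𝒮} {X : ∫ᶜ F} (f : S ⟶ X.base) :
    (ι F S).obj ((FibSite.invImage F f).obj X.fiber) ⟶ X := hom f (𝟙 _)

theorem vert_cart {S : 𝒮} {V : F.obj ⟨op S⟩} {X : ∫ᶜ F} (f : S ⟶ X.base)
    (φ : V ⟶ (FibSite.invImage F f).obj X.fiber) :
    (ι F S).map φ ≫ cart f = hom f φ := by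
  rw [vert_hom, Category.comp_id]

theorem exists_vert_cart {S : 𝒮} {V : F.obj ⟨op S⟩} {X : ∫ᶜ F} (h : (ι F S).obj V ⟶ X) :
    ∃ φ : V ⟶ (FibSite.invImage F h.base).obj X.fiber, h = (ι F S).map φ ≫ cart h.base :=
  ⟨h.fiber, (vert_cart h.base h.fiber).symm⟩

theorem vert_cart_inj {S : 𝒮} {V : F.obj ⟨op S⟩} {X : ∫ᶜ F} {f : S ⟶ X.base}
    {φ φ' : V ⟶ (FibSite.invImage F f).obj X.fiber}
    (h : (ι F S).map φ ≫ cart f = (ι F S).map φ' ≫ cart f) : φ = φ' := by
  rw [vert_cart, vert_cart] at h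
  exact hom_injective h

set_option backward.defeqAttrib.useBackward true in
set_option backward.isDefEq.respectTransparency false in
theorem exists_vert {S : 𝒮} {W V : F.obj ⟨op S⟩} (h : (ι F S).obj W ⟶ (ι F S).obj V)
    (hb : h.base = 𝟙 S) : ∃ r : W ⟶ V, (ι F S).map r = h := by
  refine ⟨h.fiber ≫ eqToHom (by rw [hb]; rfl) ≫ (F.mapId ⟨op S⟩).hom.toNatTrans.app V, ?_⟩
  ext
  · exact hb.symm
  · simp [ι, hb, ← Cat.Hom₂.comp_app]

set_option backward.defeqAttrib.useBackward true in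
set_option backward.isDefEq.respectTransparency false in
theorem vert_injective {S : 𝒮} {W V : F.obj ⟨op S⟩} {r r' : W ⟶ V}
    (h : (ι F S).map r = (ι F S).map r') : r = r' := by
  have h2 : r ≫ (F.mapId ⟨op S⟩).inv.toNatTrans.app V =
      r' ≫ (F.mapId ⟨op S⟩).inv.toNatTrans.app V := eq_of_heq (CoGrothendieck.Hom.mk.inj h).2
  have h3 := congrArg (· ≫ (F.mapId ⟨op S⟩).hom.toNatTrans.app V) h2
  simpa [← Cat.Hom₂.comp_app] using h3

instance faithful_ι (S : 𝒮) : (ι F S).Faithful := ⟨fun h => vert_injective h⟩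

variable {J : FibSite.Topologies F}

/-- Inverse images preserve covers. -/
theorem invImage_cover (hF : FibSite.IsPreFibSite F J) {R S : 𝒮} (f : R ⟶ S) :
    CoverPreserving (J S) (J R) (FibSite.invImage F f) :=
  have := hF f
  CoverPreserving.of_isContinuous _ _ _

variable (J) in
/-- The sieves containing the image of a fibrewise covering sieve. -/
def imageTopology (hF : FibSite.IsPreFibSite F J) : GrothendieckTopology (∫ᶜ F) where
  sieves X := {A | ∃ R ∈ J X.base X.fiber,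
    Sieve.functorPushforward (ι F X.base) R ≤ A}
  top_mem' X := ⟨⊤, GrothendieckTopology.top_mem _ _, le_top⟩
  pullback_stable' X Y A a := by
    rintro ⟨R, hR, hle⟩
    refine ⟨(R.functorPushforward (FibSite.invImage F a.base)).pullback a.fiber,
      (J Y.base).pullback_stable a.fiber ((invImage_cover hF a.base).cover_preserve hR), ?_⟩
    rw [Sieve.functorPushforward_le_iff_le_functorPullback]
    rintro W g ⟨Z, r, φ, hr, e⟩
    refine (congrArg (fun k => A.arrows k) ?_).mpr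
      (A.downward_closed (hle _ (Sieve.image_mem_functorPushforward _ _ hr))
        (hom (X := (ι F X.base).obj Z) a.base φ))
    refine Eq.trans (vert_hom g a.base a.fiber) ?_
    rw [e]
    exact (hom_vert a.base φ r).symm
  transitive' X A hA B hB := by
    obtain ⟨R, hR, hle⟩ := hA
    refine ⟨B.functorPullback (ι F X.base), ?_, ?_⟩
    · refine (J X.base).transitive hR _ fun V r hr => ?_
      obtain ⟨R', hR', hle'⟩ := hB (hle _ (Sieve.image_mem_functorPushforward _ _ hr))
      refine (J X.base).superset_covering (fun W g hg => ?_) hR'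
      refine (congrArg (fun k => B.arrows k) ((ι F X.base).map_comp g r)).mpr ?_
      exact hle' _ (Sieve.image_mem_functorPushforward _ _ hg)
    · rw [Sieve.functorPushforward_le_iff_le_functorPullback]

theorem totalTopology_eq (hF : FibSite.IsPreFibSite F J) :
    FibSite.totalTopology F J = imageTopology J hF := by
  refine le_antisymm (FibSite.totalTopology_le fun S U R hR => ⟨R, hR, le_rfl⟩) ?_
  rintro ⟨S, U⟩ A ⟨R, hR, hle⟩
  exact GrothendieckTopology.superset_covering _ hle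
    (FibSite.functorPushforward_mem_totalTopology hR)

theorem mem_total_iff (hF : FibSite.IsPreFibSite F J) (X : ∫ᶜ F) (A : Sieve X) :
    A ∈ FibSite.totalTopology F J X ↔
      ∃ R ∈ J X.base X.fiber, Sieve.functorPushforward (ι F X.base) R ≤ A := by
  rw [totalTopology_eq hF]; rfl

theorem isCocontinuous_ι (hF : FibSite.IsPreFibSite F J) (S : 𝒮) :
    (ι F S).IsCocontinuous (J S) (FibSite.totalTopology F J) where
  cover_lift {U A} hA := by
    obtain ⟨R, hR, hle⟩ := (mem_total_iff hF _ A).1 hA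
    exact (J S).superset_covering
      ((Sieve.functorPushforward_le_iff_le_functorPullback _ _ _).1 hle) hR

theorem loc_total {S : 𝒮} {U : F.obj ⟨op S⟩} {p : ∀ W, (W ⟶ U) → Prop}
    {q : ∀ X : ∫ᶜ F, (X ⟶ (ι F S).obj U) → Prop}
    (h : Loc (J S) U p)
    (hpq : ∀ (W : F.obj ⟨op S⟩) (g : W ⟶ U), p W g →
      ∀ (Y : ∫ᶜ F) (k : Y ⟶ (ι F S).obj W), q Y (k ≫ (ι F S).map g)) :
    Loc (FibSite.totalTopology F J) ((ι F S).obj U) q := by
  obtain ⟨R, hR, hp⟩ := h
  refine ⟨R.functorPushforward (ι F S), FibSite.functorPushforward_mem_totalTopology hR, ?_⟩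
  rintro Y _ ⟨W, g, k, hg, rfl⟩
  exact hpq W g (hp W g hg) Y k

theorem loc_fibre (hF : FibSite.IsPreFibSite F J) {S : 𝒮} {U : F.obj ⟨op S⟩}
    {q : ∀ X : ∫ᶜ F, (X ⟶ (ι F S).obj U) → Prop}
    (h : Loc (FibSite.totalTopology F J) ((ι F S).obj U) q) :
    Loc (J S) U (fun W g => q ((ι F S).obj W) ((ι F S).map g)) := by
  obtain ⟨A, hA, hq⟩ := h
  exact ⟨A.functorPullback (ι F S), (isCocontinuous_ι hF S).cover_lift hA,
    fun W g hg => hq _ _ hg⟩

section Sheaves

variable {P : (∫ᶜ F)ᵒᵖ ⥤ Type w}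

/-- A presheaf separated on each fibre is separated on the image of covering sieves. -/
theorem eq_of_fibre_separated {S : 𝒮} (hP : Presieve.IsSeparated (J S) ((ι F S).op ⋙ P))
    {U : F.obj ⟨op S⟩} {R : Sieve U} (hR : R ∈ J S U) {x y : P.obj (op ((ι F S).obj U))}
    (h : ∀ (V : F.obj ⟨op S⟩) (r : V ⟶ U), R.arrows r →
      P.map ((ι F S).map r).op x = P.map ((ι F S).map r).op y) : x = y :=
  (hP R hR).ext fun V r hr => h V r hr

theorem isSheaf_total_of_fibre (hF : FibSite.IsPreFibSite F J)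
    (hP : ∀ S : 𝒮, Presieve.IsSheaf (J S) ((ι F S).op ⋙ P)) :
    Presieve.IsSheaf (FibSite.totalTopology F J) P := by
  intro X A hA
  obtain ⟨R, hR, hle⟩ := (mem_total_iff hF X A).1 hA
  have hmem : ∀ {V : F.obj ⟨op X.base⟩} {r : V ⟶ X.fiber}, R.arrows r →
      A.arrows ((ι F X.base).map r) :=
    fun hr => hle _ (Sieve.image_mem_functorPushforward _ _ hr)
  intro x hx
  have hx' := (Presieve.compatible_iff_sieveCompatible x).1 hx
  have hxc : ∀ {Y : ∫ᶜ F} {a b : Y ⟶ X}, a = b → ∀ (ha : A.arrows a) (hb : A.arrows b),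
      x a ha = x b hb := by
    intro Y a b h ha hb
    subst h
    rfl
  let y : Presieve.FamilyOfElements ((ι F X.base).op ⋙ P) R.arrows :=
    fun V r hr => x _ (hmem hr)
  have hy : y.Compatible := by
    rw [Presieve.compatible_iff_sieveCompatible]
    intro V W r g hr
    exact (hxc ((ι F X.base).map_comp g r) _
      (A.downward_closed (hmem hr) ((ι F X.base).map g))).trans
      (hx' _ ((ι F X.base).map g) (hmem hr))
  obtain ⟨t, ht, huniq⟩ := hP X.base R hR y hy
  refine ⟨t, ?_, fun t' ht' => huniq t' fun V r hr => ht' _ (hmem hr)⟩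
  intro Y a ha
  have hR' := (J Y.base).pullback_stable a.fiber ((invImage_cover hF a.base).cover_preserve hR)
  refine eq_of_fibre_separated (U := Y.fiber) (hP Y.base).isSeparated hR' fun W g hg => ?_
  obtain ⟨Z, r, φ, hr, e⟩ := hg
  have hcomp : (ι F Y.base).map g ≫ a =
      hom (X := (ι F X.base).obj Z) a.base φ ≫ (ι F X.base).map r := by
    refine Eq.trans (vert_hom g a.base a.fiber) ?_
    rw [e]
    exact (hom_vert a.base φ r).symm
  have ht1 : P.map ((ι F X.base).map r).op t = x _ (hmem hr) := ht r hr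
  refine ((Functor.map_comp_apply P _ _ t).symm).trans (Eq.trans ?_ (hx' a _ ha))
  refine Eq.trans ?_ ((hx' _ (hom (X := (ι F X.base).obj Z) a.base φ) (hmem hr)).symm.trans
    (hxc hcomp.symm _ _))
  rw [← ht1, ← Functor.map_comp_apply]
  exact congrArg (fun k => P.map k.op t) hcomp

theorem isSheaf_fibre_of_total_aux (hF : FibSite.IsPreFibSite F J)
    (hP : Presieve.IsSheaf (FibSite.totalTopology F J) P) (S : 𝒮) :
    Presieve.IsSheaf (J S) ((ι F S).op ⋙ P) := by
  intro U R hR x hx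
  have hx' := (Presieve.compatible_iff_sieveCompatible x).1 hx
  have hA : R.functorPushforward (ι F S) ∈ FibSite.totalTopology F J _ :=
    FibSite.functorPushforward_mem_totalTopology hR
  have hsep : ∀ T : 𝒮, Presieve.IsSeparated (J T) ((ι F T).op ⋙ P) := by
    intro T V R' hR' z t₁ t₂ h₁ h₂
    refine (hP.isSeparated _ (FibSite.functorPushforward_mem_totalTopology hR')).ext ?_
    rintro Y _ ⟨W, g, k, hg, rfl⟩
    rw [op_comp, Functor.map_comp_apply, Functor.map_comp_apply]
    exact congrArg _ ((h₁ g hg).trans (h₂ g hg).symm)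
  have hwd : ∀ {T : 𝒮} {W : F.obj ⟨op T⟩} {V₁ V₂ : F.obj ⟨op S⟩} {r₁ : V₁ ⟶ U} {r₂ : V₂ ⟶ U}
      (hr₁ : R.arrows r₁) (hr₂ : R.arrows r₂) (h₁ : (ι F T).obj W ⟶ (ι F S).obj V₁)
      (h₂ : (ι F T).obj W ⟶ (ι F S).obj V₂),
      h₁ ≫ (ι F S).map r₁ = h₂ ≫ (ι F S).map r₂ →
      P.map h₁.op (x r₁ hr₁) = P.map h₂.op (x r₂ hr₂) := by
    intro T W V₁ V₂ r₁ r₂ hr₁ hr₂ h₁ h₂ e
    obtain ⟨f, φ₁, rfl⟩ := exists_homι h₁
    obtain ⟨f', φ₂, rfl⟩ := exists_homι h₂
    replace e := ((hom_vert f φ₁ r₁).symm.trans e).trans (hom_vert f' φ₂ r₂)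
    obtain rfl := hom_base_inj e
    have e' := hom_injective e
    haveI : (FibSite.invImage F f).IsContinuous (J S) (J T) := hF f
    have hloc := loc_eq_of_continuous (J := J T) (J S) (FibSite.invImage F f) R hR ((ι F T).op ⋙ P)
      (fun V r hr => P.map (cart (X := (ι F S).obj V) f).op (x r hr))
      (fun V V' m r hr => by
        have h1 : x (m ≫ r) (R.downward_closed hr m) = P.map ((ι F S).map m).op (x r hr) :=
          hx' r m hr
        show P.map _ (x (m ≫ r) _) = P.map _ (P.map _ (x r hr))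
        rw [h1, ← Functor.map_comp_apply, ← op_comp, ← Functor.map_comp_apply]
        refine congrArg (fun k : (ι F T).obj ((FibSite.invImage F f).obj V) ⟶ (ι F S).obj V' =>
          P.map k.op (x r hr)) ?_
        show hom (X := (ι F S).obj V) f (𝟙 _) ≫ (ι F S).map m =
          (ι F T).map ((FibSite.invImage F f).map m) ≫ cart (X := (ι F S).obj V') f
        exact (hom_vert f (𝟙 _) m).trans ((congrArg (hom (X := (ι F S).obj V') f)
          (Category.id_comp _)).trans (vert_cart (X := (ι F S).obj V') f _).symm))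
      hr₁ hr₂ φ₁ φ₂ e'
    obtain ⟨R', hR', hloc⟩ := hloc
    refine eq_of_fibre_separated (hsep T) hR' fun W' g hg => ?_
    have h2 := hloc W' g hg
    have key : ∀ {V : F.obj ⟨op S⟩} (φ : W ⟶ (FibSite.invImage F f).obj V)
        (t : P.obj (op ((ι F S).obj V))),
        P.map ((ι F T).map g).op (P.map (hom (X := (ι F S).obj V) f φ).op t) =
          P.map ((ι F T).map (g ≫ φ)).op (P.map (cart (X := (ι F S).obj V) f).op t) := by
      intro V φ t
      refine ((Functor.map_comp_apply P _ _ t).symm.trans (congrArg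
        (fun k : (ι F T).obj W' ⟶ (ι F S).obj V => P.map k.op t) ?_)).trans
        (Functor.map_comp_apply P _ _ t)
      exact (vert_hom g (X := (ι F S).obj V) f φ).trans (vert_cart (X := (ι F S).obj V) f (g ≫ φ)).symm
    exact ((key φ₁ _).trans h2).trans (key φ₂ _).symm
  choose V r k hr he using fun (Y : ∫ᶜ F) (a : Y ⟶ (ι F S).obj U)
    (ha : (R.functorPushforward (ι F S)).arrows a) => ha
  let y : Presieve.FamilyOfElements P (R.functorPushforward (ι F S)).arrows :=
    fun Y a ha => P.map (k Y a ha).op (x (r Y a ha) (hr Y a ha))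
  have hy : y.Compatible := by
    intro Y₁ Y₂ Z g₁ g₂ a₁ a₂ ha₁ ha₂ hg
    dsimp only [y]
    rw [← Functor.map_comp_apply, ← Functor.map_comp_apply, ← op_comp, ← op_comp]
    refine hwd (T := Z.base) (W := Z.fiber) (hr _ _ _) (hr _ _ _) (g₁ ≫ k _ _ _) (g₂ ≫ k _ _ _) ?_
    exact (Category.assoc _ _ _).trans ((congrArg (g₁ ≫ ·) (he Y₁ a₁ ha₁)).symm.trans
      (hg.trans ((congrArg (g₂ ≫ ·) (he Y₂ a₂ ha₂)).trans (Category.assoc _ _ _).symm)))
  obtain ⟨t, ht, huniq⟩ := hP _ hA y hy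
  have hyr : ∀ {W : F.obj ⟨op S⟩} (g : W ⟶ U) (hg : R.arrows g),
      y _ (Sieve.image_mem_functorPushforward (ι F S) R hg) = x g hg := by
    intro W g hg
    refine (hwd (r₂ := g) (hr _ _ _) hg _ (𝟙 _) ?_).trans ?_
    · rw [Category.id_comp]; exact (he _ _ _).symm
    · rw [op_id, Functor.map_id_apply]
  refine ⟨t, fun W g hg => (ht _ (Sieve.image_mem_functorPushforward (ι F S) R hg)).trans
    (hyr g hg), fun t' ht' => huniq t' ?_⟩
  intro Y a ha
  dsimp only [y]
  rw [← ht' (r Y a ha) (hr Y a ha)]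
  show P.map a.op t' = P.map _ (P.map _ t')
  rw [← Functor.map_comp_apply]
  exact congrArg (fun k => P.map k.op t') (he Y a ha)

theorem isSheaf_fibre_of_total (hF : FibSite.IsPreFibSite F J)
    (hP : Presieve.IsSheaf (FibSite.totalTopology F J) P) (S : 𝒮) :
    Presieve.IsSheaf (J S) ((ι F S).op ⋙ P) :=
  isSheaf_fibre_of_total_aux hF hP S

theorem isContinuous_ι (hF : FibSite.IsPreFibSite F J) (S : 𝒮) :
    (ι F S).IsContinuous (J S) (FibSite.totalTopology F J) where
  op_comp_isSheaf_of_types G :=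
    isSheaf_fibre_of_total hF ((isSheaf_iff_isSheaf_of_type _ _).1 G.property) S

theorem isSheaf_total_iff (hF : FibSite.IsPreFibSite F J) {A : Type u₃} [Category.{v₃} A]
    (P : (∫ᶜ F)ᵒᵖ ⥤ A) :
    Presheaf.IsSheaf (FibSite.totalTopology F J) P ↔
      ∀ S : 𝒮, Presheaf.IsSheaf (J S) ((ι F S).op ⋙ P) :=
  ⟨fun h S T => isSheaf_fibre_of_total hF (h T) S,
    fun h T => isSheaf_total_of_fibre hF fun S => h S T⟩

theorem isContinuous_iff_fibre (hF : FibSite.IsPreFibSite F J) {D : Type u₃} [Category.{v₃} D]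
    (K : GrothendieckTopology D) (m : ∫ᶜ F ⥤ D) :
    m.IsContinuous (FibSite.totalTopology F J) K ↔
      ∀ S : 𝒮, (ι F S ⋙ m).IsContinuous (J S) K := by
  refine ⟨fun h S => ?_, fun h => ⟨fun G => ?_⟩⟩
  · have := isContinuous_ι hF S
    exact Functor.isContinuous_comp _ _ _ (FibSite.totalTopology F J) _
  · refine isSheaf_total_of_fibre hF fun S => ?_
    have := h S
    exact (ι F S ⋙ m).op_comp_isSheaf_of_types (J S) K G

theorem induced_ι_eq (hF : FibSite.IsPreFibSite F J) (S : 𝒮) :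
    (ι F S).inducedTopology (FibSite.totalTopology F J) = J S := by
  refine le_antisymm (fun U R hR => ?_) (Functor.le_inducedTopology_iff.2 (isContinuous_ι hF S))
  obtain ⟨R', hR', hle⟩ := (mem_total_iff hF _ _).1
    ((CoverPreserving.of_isContinuous (ι F S) ((ι F S).inducedTopology _)
      (FibSite.totalTopology F J)).cover_preserve hR)
  refine (J S).superset_covering (fun W g hg => ?_) hR'
  obtain ⟨Z, r, k, hr, e⟩ := hle _ (Sieve.image_mem_functorPushforward _ _ hg)
  have hb : k.base = 𝟙 S := by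
    have := congrArg (fun h => ((forget F).map h)) e
    exact ((this.trans (Category.comp_id k.base)).symm)
  obtain ⟨m, rfl⟩ := exists_vert k hb
  rw [vert_injective (e.trans ((ι F S).map_comp m r).symm)]
  exact R.downward_closed hr m

end Sheaves

end Groth.Agent.FibSiteLib
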