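import Groth.Agent.Lib.FibSite.Basic
import Mathlib.CategoryTheory.Functor.KanExtension.Adjunction
import Mathlib.CategoryTheory.Limits.Types.Limits

/-!
# Right Kan extension along a fibre inclusion
-/

universe u

open CategoryTheory CategoryTheory.Limits Opposite Pseudofunctor Pseudofunctor.CoGrothendieck

namespace Groth.Agent.FibSiteLib

variable {𝒮 : Type u} [SmallCategory 𝒮] {F : Pseudofunctor (LocallyDiscrete 𝒮ᵒᵖ) Cat.{u, u}}
  {i : 𝒮}

/-- The right Kan extension to the total category of a presheaf on the fibre over `i`. -/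
noncomputable abbrev ranι (P : (F.obj ⟨op i⟩)ᵒᵖ ⥤ Type u) : (∫ᶜ F)ᵒᵖ ⥤ Type u :=
  (ι F i).op.ran.obj P

variable {P : (F.obj ⟨op i⟩)ᵒᵖ ⥤ Type u}

/-- Evaluation of a section of the right Kan extension at an arrow from the fibre. -/
noncomputable def ev {X : ∫ᶜ F} (x : (ranι P).obj (op X)) {V : F.obj ⟨op i⟩}
    (h : (ι F i).obj V ⟶ X) : P.obj (op V) :=
  ((ι F i).op.ranCounit.app P).app (op V) ((ranι P).map h.op x)

theorem ev_restrict {X Y : ∫ᶜ F} (g : Y ⟶ X) (x : (ranι P).obj (op X)) {V : F.obj ⟨op i⟩}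
    (h : (ι F i).obj V ⟶ Y) : ev ((ranι P).map g.op x) h = ev x (h ≫ g) := by
  rw [ev, ev, op_comp, Functor.map_comp_apply]

theorem ev_vert {X : ∫ᶜ F} (x : (ranι P).obj (op X)) {V V' : F.obj ⟨op i⟩} (r : V' ⟶ V)
    (h : (ι F i).obj V ⟶ X) : ev x ((ι F i).map r ≫ h) = P.map r.op (ev x h) := by
  rw [ev, ev, op_comp, Functor.map_comp_apply]
  exact NatTrans.naturality_apply ((ι F i).op.ranCounit.app P) r.op _

theorem ev_ext {X : ∫ᶜ F} {x y : (ranι P).obj (op X)}
    (h : ∀ (V : F.obj ⟨op i⟩) (k : (ι F i).obj V ⟶ X), ev x k = ev y k) : x = y :=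
  (Types.isLimitEquivSections
    ((ι F i).op.isPointwiseRightKanExtensionRanCounit P (op X))).injective
    (Subtype.ext (funext fun j => h j.right.unop j.hom.unop))

theorem ev_exists {X : ∫ᶜ F} (fam : ∀ V : F.obj ⟨op i⟩, ((ι F i).obj V ⟶ X) → P.obj (op V))
    (hfam : ∀ (V V' : F.obj ⟨op i⟩) (r : V' ⟶ V) (h : (ι F i).obj V ⟶ X),
      fam V' ((ι F i).map r ≫ h) = P.map r.op (fam V h)) :
    ∃ x : (ranι P).obj (op X), ∀ V h, ev x h = fam V h := by
  let e := Types.isLimitEquivSections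
    ((ι F i).op.isPointwiseRightKanExtensionRanCounit P (op X))
  let s : ((StructuredArrow.proj (op X) (ι F i).op) ⋙ P).sections :=
    ⟨fun j => fam j.right.unop j.hom.unop, by
      intro j j' m
      refine ((hfam _ _ m.right.unop j.hom.unop).symm).trans ?_
      exact congrArg (fam j'.right.unop) (congrArg Quiver.Hom.unop (StructuredArrow.w m))⟩
  exact ⟨e.symm s, fun V h =>
    congrFun (congrArg Subtype.val (e.apply_symm_apply s)) (StructuredArrow.mk h.op)⟩

/-- A section over an object of the fibre over `j` is determined by its values at the cartesian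
arrows. -/
theorem ev_ext_cart {j : 𝒮} {U : F.obj ⟨op j⟩} {x y : (ranι P).obj (op ((ι F j).obj U))}
    (h : ∀ f : i ⟶ j, ev x (cart (X := (ι F j).obj U) f) =
      ev y (cart (X := (ι F j).obj U) f)) : x = y := by
  refine ev_ext fun V k => ?_
  obtain ⟨φ, hk⟩ := exists_vert_cart k
  rw [hk, ev_vert, ev_vert]
  exact congrArg _ (h k.base)

theorem ev_exists_cart {j : 𝒮} {U : F.obj ⟨op j⟩}
    (y : ∀ f : i ⟶ j, P.obj (op ((FibSite.invImage F f).obj U))) :
    ∃ x : (ranι P).obj (op ((ι F j).obj U)),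
      ∀ f : i ⟶ j, ev x (cart (X := (ι F j).obj U) f) = y f := by
  obtain ⟨x, hx⟩ := ev_exists (P := P) (X := (ι F j).obj U)
    (fun V h => P.map h.fiber.op (y h.base)) (fun V V' r h => by
      obtain ⟨f, φ, rfl⟩ := exists_hom h
      rw [vert_hom]
      exact Functor.map_comp_apply P φ.op r.op (y f))
  refine ⟨x, fun f => (hx _ _).trans ?_⟩
  exact Functor.map_id_apply P (op _) (y f)

section Pointed

variable (pt : ∀ V : F.obj ⟨op i⟩, P.obj (op V))
  (hpt : ∀ (V V' : F.obj ⟨op i⟩) (r : V' ⟶ V), P.map r.op (pt V) = pt V')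

include hpt in
theorem exists_section {U : F.obj ⟨op i⟩} (y : P.obj (op U)) :
    ∃ x : (ranι P).obj (op ((ι F i).obj U)),
      (∀ (V : F.obj ⟨op i⟩) (r : V ⟶ U), ev x ((ι F i).map r) = P.map r.op y) ∧
      ∀ (V : F.obj ⟨op i⟩) (h : (ι F i).obj V ⟶ (ι F i).obj U), h.base ≠ 𝟙 i →
        ev x h = pt V := by
  classical
  obtain ⟨x, hx⟩ := ev_exists (P := P) (X := (ι F i).obj U)
    (fun V h => if hb : h.base = 𝟙 i then P.map (exists_vert h hb).choose.op y else pt V)
    (fun V V' r h => by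
      have hb' : ((ι F i).map r ≫ h).base = h.base := Category.id_comp _
      by_cases hb : h.base = 𝟙 i
      · rw [dif_pos hb, dif_pos (hb'.trans hb), ← Functor.map_comp_apply]
        refine congrArg (fun k : V' ⟶ U => P.map k.op y) (vert_injective ?_)
        refine (exists_vert _ (hb'.trans hb)).choose_spec.trans (Eq.trans ?_
          ((ι F i).map_comp r (exists_vert h hb).choose).symm)
        exact (congrArg ((ι F i).map r ≫ ·) (exists_vert h hb).choose_spec).symm
      · rw [dif_neg hb, dif_neg (fun hc => hb (hb'.symm.trans hc)), hpt])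
  refine ⟨x, fun V r => ?_, fun V h hb => (hx V h).trans (dif_neg hb)⟩
  rw [hx, dif_pos (show ((ι F i).map r).base = 𝟙 i from rfl)]
  exact congrArg (fun k : V ⟶ U => P.map k.op y)
    (vert_injective (exists_vert ((ι F i).map r) rfl).choose_spec)

end Pointed

/-- A retract of a sheaf is a sheaf. -/
theorem isSheaf_of_retract {C : Type*} [Category* C] {J : GrothendieckTopology C}
    {Q R : Cᵒᵖ ⥤ Type u} (r : R ⟶ Q) (s : Q ⟶ R) (h : s ≫ r = 𝟙 Q)
    (hR : Presieve.IsSheaf J R) : Presieve.IsSheaf J Q := by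
  have hrs : ∀ (X : Cᵒᵖ) (q : Q.obj X), r.app X (s.app X q) = q := fun X q =>
    ConcreteCategory.congr_hom (congr_app h X) q
  intro X S hS x hx
  obtain ⟨t, ht, huniq⟩ := hR S hS
    (Presieve.FamilyOfElements.map x s)
    (Presieve.FamilyOfElements.Compatible.map s hx)
  refine ⟨r.app _ t, fun Y g hg => ?_, fun q hq => ?_⟩
  · rw [← NatTrans.naturality_apply, ht g hg]
    exact hrs _ _
  · rw [← hrs _ q, huniq (s.app _ q) fun Y g hg => by
      rw [← NatTrans.naturality_apply, hq g hg]; rfl]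

end Groth.Agent.FibSiteLib
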