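import Groth.Agent.Lib.FibSite.Transfer
import Groth.Agent.Lib.FibSite.Ran
import Mathlib.CategoryTheory.Adjunction.Triple
import Mathlib.CategoryTheory.Adjunction.FullyFaithful

/-!
# The adjoints of restriction to a fibre
-/

universe u

open CategoryTheory CategoryTheory.Limits Opposite Pseudofunctor Pseudofunctor.CoGrothendieck

namespace Groth.Agent.FibSiteLib

variable {𝒮 : Type u} [SmallCategory 𝒮] {F : Pseudofunctor (LocallyDiscrete 𝒮ᵒᵖ) Cat.{u, u}}
  {J : FibSite.Topologies F}

theorem cart_vert {i j : 𝒮} (f : j ⟶ i) {U U' : F.obj ⟨op i⟩} (r : U' ⟶ U) :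
    (ι F j).map ((FibSite.invImage F f).map r) ≫ cart (X := (ι F i).obj U) f =
      cart (X := (ι F i).obj U') f ≫ (ι F i).map r :=
  ((hom_vert f (𝟙 _) r).trans ((congrArg (hom (X := (ι F i).obj U) f) (Category.id_comp _)).trans
    (vert_cart (X := (ι F i).obj U) f _).symm)).symm

/-- Restriction along the cartesian arrows over `f`. -/
noncomputable def cartRestr (Q : (∫ᶜ F)ᵒᵖ ⥤ Type u) {i j : 𝒮} (f : j ⟶ i) :
    (ι F i).op ⋙ Q ⟶ (FibSite.invImage F f).op ⋙ (ι F j).op ⋙ Q where
  app U := Q.map (cart (X := (ι F i).obj U.unop) f).op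
  naturality U U' r := by
    ext x
    show Q.map _ (Q.map _ x) = Q.map _ (Q.map _ x)
    refine ((Functor.map_comp_apply Q _ _ x).symm.trans ?_).trans (Functor.map_comp_apply Q _ _ x)
    exact congrArg (fun k : (ι F j).obj ((FibSite.invImage F f).obj U'.unop) ⟶
      (ι F i).obj U.unop => Q.map k.op x) (cart_vert f r.unop).symm

/-- The projection of the restricted coextension to the factor of `f`. -/
noncomputable def coextProj {i j : 𝒮} (a : (F.obj ⟨op i⟩)ᵒᵖ ⥤ Type u) (f : i ⟶ j) :
    (ι F j).op ⋙ ranι a ⟶ (FibSite.invImage F f).op ⋙ a :=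
  cartRestr (ranι a) f ≫
    Functor.whiskerLeft (FibSite.invImage F f).op ((ι F i).op.ranCounit.app a)

theorem coextProj_app {i j : 𝒮} (a : (F.obj ⟨op i⟩)ᵒᵖ ⥤ Type u) (f : i ⟶ j)
    {U : F.obj ⟨op j⟩} (x : (ranι a).obj (op ((ι F j).obj U))) :
    (coextProj a f).app (op U) x = ev x (cart (X := (ι F j).obj U) f) := rfl

section Fan

variable {i j : 𝒮} [(ι F i).IsCocontinuous (J i) (FibSite.totalTopology F J)]
  [∀ (P : (F.obj ⟨op i⟩)ᵒᵖ ⥤ Type u), (ι F i).op.HasPointwiseRightKanExtension P]
  [(ι F j).IsContinuous (J j) (FibSite.totalTopology F J)]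
  [∀ f : i ⟶ j, (FibSite.invImage F f).IsContinuous (J j) (J i)]

/-- The fan exhibiting the restriction of a coextension as a product. -/
noncomputable def coextFan (a : Sheaf (J i) (Type u)) :
    Fan fun f : i ⟶ j =>
      ((FibSite.invImage F f).sheafPushforwardContinuous (Type u) (J j) (J i)).obj a :=
  Fan.mk ((FibSite.restr F J (Type u) j).obj ((FibSite.coextend F J (Type u) i).obj a))
    fun f => ⟨coextProj a.obj f⟩

theorem coextFan_isLimit (a : Sheaf (J i) (Type u)) : Nonempty (IsLimit (coextFan (j := j) a)) := by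
  choose lift hlift using fun (s : Fan fun f : i ⟶ j =>
      ((FibSite.invImage F f).sheafPushforwardContinuous (Type u) (J j) (J i)).obj a)
    (U : F.obj ⟨op j⟩) (y : s.pt.obj.obj (op U)) =>
      ev_exists_cart (P := a.obj) (U := U) fun f => (s.proj f).hom.app (op U) y
  refine ⟨mkFanLimit _ (fun s => ⟨{ app := fun U => ↾fun y => lift s U.unop y
                                    naturality := ?_ }⟩) ?_ ?_⟩
  · intro U U' r
    ext y
    refine ev_ext_cart fun f => (hlift s U'.unop _ f).trans ?_
    refine Eq.trans ?_ (NatTrans.naturality_apply (coextProj a.obj f) r (lift s U.unop y)).symm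
    rw [coextProj_app, hlift]
    exact NatTrans.naturality_apply (s.proj f).hom r y
  · intro s f
    ext U y
    exact hlift s U.unop y f
  · intro s m hm
    ext U y
    refine ev_ext_cart fun f => Eq.trans ?_ (hlift s U.unop y f).symm
    exact ConcreteCategory.congr_hom (congr_app (congrArg InducedCategory.Hom.hom (hm f)) U) y

end Fan

section Terminal

theorem full_ι {i : 𝒮} (hi : IsTerminal i) : (ι F i).Full :=
  ⟨fun h => exists_vert h (hi.hom_ext _ _)⟩

theorem extend_full_faithful (hF : FibSite.IsPreFibSite F J) {i : 𝒮} (hi : IsTerminal i)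
    [(ι F i).IsContinuous (J i) (FibSite.totalTopology F J)]
    [((ι F i).sheafPushforwardContinuous (Type u) (J i)
      (FibSite.totalTopology F J)).IsRightAdjoint] :
    (FibSite.extend F J (Type u) i).Full ∧ (FibSite.extend F J (Type u) i).Faithful := by
  have := isCocontinuous_ι hF i
  have := full_ι (F := F) hi
  let adj₂ := (ι F i).sheafAdjunctionCocontinuous (Type u) (J i) (FibSite.totalTopology F J)
  have hiso : IsIso adj₂.counit := by
    refine @NatIso.isIso_of_isIso_app _ _ _ _ _ _ _ fun a => ?_
    have h1 : IsIso ((sheafToPresheaf (J i) (Type u)).map (adj₂.counit.app a)) := by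
      have h2 : (sheafToPresheaf (J i) (Type u)).map (adj₂.counit.app a) = _ :=
        (ι F i).sheafAdjunctionCocontinuous_counit_app_hom (Type u) (J i)
          (FibSite.totalTopology F J) a
      rw [h2, Functor.ranAdjunction_counit]
      haveI := faithful_ι (F := F) i
      have h3 : ∀ V, IsIso (((ι F i).op.ranCounit.app a.obj).app V) := fun V =>
        ((ι F i).op.isPointwiseRightKanExtensionRanCounit a.obj ((ι F i).op.obj V)).isIso_hom_app
      exact @NatIso.isIso_of_isIso_app _ _ _ _ _ _ _ h3
    exact isIso_of_reflects_iso (adj₂.counit.app a) (sheafToPresheaf (J i) (Type u))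
  let t : Adjunction.Triple (FibSite.extend F J (Type u) i) _ _ :=
    ⟨(ι F i).sheafAdjunctionContinuous (Type u) (J i) (FibSite.totalTopology F J), adj₂⟩
  let ff := t.fullyFaithfulEquiv.symm adj₂.fullyFaithfulROfIsIsoCounit
  exact ⟨ff.full, ff.faithful⟩

end Terminal

section Cofan

variable {i j : 𝒮}

theorem exists_extend_cofan (hF : FibSite.IsPreFibSite F J)
    [∀ S : 𝒮, (ι F S).IsContinuous (J S) (FibSite.totalTopology F J)]
    [((ι F i).sheafPushforwardContinuous (Type u) (J i)
      (FibSite.totalTopology F J)).IsRightAdjoint]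
    [∀ f : j ⟶ i, (FibSite.invImage F f).IsContinuous (J i) (J j)]
    [∀ f : j ⟶ i,
      ((FibSite.invImage F f).sheafPushforwardContinuous (Type u) (J i) (J j)).IsRightAdjoint]
    (a : Sheaf (J i) (Type u)) :
    ∃ c : Cofan fun f : j ⟶ i => ((FibSite.invImage F f).sheafPullback (Type u) (J i) (J j)).obj a,
      Nonempty (IsColimit c) ∧
        Nonempty (c.pt ≅ (FibSite.restr F J (Type u) j).obj
          ((FibSite.extend F J (Type u) i).obj a)) := by
  have := isCocontinuous_ι hF j
  let adj₁ := (ι F i).sheafAdjunctionContinuous (Type u) (J i) (FibSite.totalTopology F J)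
  let adj₂ := (ι F j).sheafAdjunctionCocontinuous (Type u) (J j) (FibSite.totalTopology F J)
  let adjf : ∀ f : j ⟶ i, _ := fun f =>
    (FibSite.invImage F f).sheafAdjunctionContinuous (Type u) (J i) (J j)
  let E := (FibSite.extend F J (Type u) i).obj a
  let d : ∀ f : j ⟶ i, a ⟶ ((FibSite.invImage F f).sheafPushforwardContinuous (Type u)
      (J i) (J j)).obj ((FibSite.restr F J (Type u) j).obj E) :=
    fun f => adj₁.unit.app a ≫ ⟨cartRestr E.obj f⟩
  have key : ∀ (b : Sheaf (J j) (Type u))
      (M : (FibSite.restr F J (Type u) j).obj E ⟶ b) (f : j ⟶ i)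
      (U : F.obj ⟨op i⟩) (x : a.obj.obj (op U)),
      (d f ≫ ((FibSite.invImage F f).sheafPushforwardContinuous (Type u) (J i) (J j)).map M).hom.app
          (op U) x =
        ev (P := b.obj) ((adj₁.homEquiv _ _ (adj₂.homEquiv _ _ M)).hom.app (op U) x)
          (cart (X := (ι F i).obj U) f) := by
    intro b M f U x
    let Ê := adj₂.homEquiv _ _ M
    have hM : M = (FibSite.restr F J (Type u) j).map Ê ≫ adj₂.counit.app b := by
      exact ((adj₂.homEquiv _ _).symm_apply_apply M).symm.trans
        (Adjunction.homEquiv_counit adj₂ _ _ _)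
    have hcounit : (adj₂.counit.app b).hom = (ι F j).op.ranCounit.app b.obj := by
      rw [(ι F j).sheafAdjunctionCocontinuous_counit_app_hom (Type u) (J j)
          (FibSite.totalTopology F J) b, Functor.ranAdjunction_counit]
    conv_lhs => rw [hM]
    rw [Adjunction.homEquiv_unit adj₁]
    show (adj₂.counit.app b).hom.app _ (Ê.hom.app _ (E.obj.map _ _)) = _
    rw [hcounit, NatTrans.naturality_apply]
    rfl
  refine ⟨Cofan.mk _ (fun f => ((adjf f).homEquiv _ _).symm (d f)), ⟨?_⟩, ⟨Iso.refl _⟩⟩
  have hM : ∀ (b : Sheaf (J j) (Type u)) (M M' : (FibSite.restr F J (Type u) j).obj E ⟶ b),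
      (∀ f, d f ≫ ((FibSite.invImage F f).sheafPushforwardContinuous (Type u) (J i) (J j)).map M =
        d f ≫ ((FibSite.invImage F f).sheafPushforwardContinuous (Type u) (J i) (J j)).map M') →
      M = M' := by
    intro b M M' h
    apply (adj₂.homEquiv _ _).injective
    apply (adj₁.homEquiv _ _).injective
    ext U x
    refine ev_ext_cart fun f => ?_
    exact (key b M f U.unop x).symm.trans
      ((ConcreteCategory.congr_hom (congr_app (congrArg InducedCategory.Hom.hom (h f)) U) x).trans
        (key b M' f U.unop x))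
  have hex : ∀ (s : Cofan fun f : j ⟶ i =>
      ((FibSite.invImage F f).sheafPullback (Type u) (J i) (J j)).obj a),
      ∃ M : (FibSite.restr F J (Type u) j).obj E ⟶ s.pt, ∀ f,
        ((adjf f).homEquiv _ _).symm (d f) ≫ M = s.inj f := by
    intro s
    obtain ⟨hl⟩ := coextFan_isLimit (J := J) (i := j) (j := i) s.pt
    let D : a ⟶ (FibSite.restr F J (Type u) i).obj ((FibSite.coextend F J (Type u) j).obj s.pt) :=
      Fan.IsLimit.lift hl fun f => (adjf f).homEquiv _ _ (s.inj f)
    refine ⟨(adj₂.homEquiv _ _).symm ((adj₁.homEquiv _ _).symm D), fun f => ?_⟩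
    apply ((adjf f).homEquiv _ _).injective
    rw [Adjunction.homEquiv_naturality_right, Equiv.apply_symm_apply]
    ext U x
    refine (key _ _ f U.unop x).trans ?_
    rw [Equiv.apply_symm_apply, Equiv.apply_symm_apply]
    exact ConcreteCategory.congr_hom (congr_app (congrArg InducedCategory.Hom.hom
      (Fan.IsLimit.fac hl (fun f => (adjf f).homEquiv _ _ (s.inj f)) f)) U) x
  choose M hMf using hex
  refine Cofan.IsColimit.mk _ M (fun s f => hMf s f) fun s m hm => hM _ _ _ fun f => ?_
  have h1 := congrArg ((adjf f).homEquiv _ _) ((hm f).trans (hMf s f).symm)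
  change ((adjf f).homEquiv _ _) (((adjf f).homEquiv _ _).symm (d f) ≫ m) =
    ((adjf f).homEquiv _ _) (((adjf f).homEquiv _ _).symm (d f) ≫ M s) at h1
  rw [Adjunction.homEquiv_naturality_right, Adjunction.homEquiv_naturality_right,
    Equiv.apply_symm_apply] at h1
  exact h1

end Cofan

section W

theorem W_iff_W_lan (hF : FibSite.IsPreFibSite F J) (i : 𝒮) {R : (F.obj ⟨op i⟩)ᵒᵖ ⥤ Type u}
    {U : F.obj ⟨op i⟩} (u' : R ⟶ yoneda.obj U) :
    (J i).W u' ↔ (FibSite.totalTopology F J).W (((ι F i).op.lan (H := Type u)).map u') := by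
  have := isContinuous_ι hF i
  refine ⟨fun h => (ι F i).W_map_of_adjunction_of_isContinuous (J i) (FibSite.totalTopology F J) _
    ((ι F i).op.lanAdjunction (Type u)) _ h, fun h => ?_⟩
  rw [GrothendieckTopology.W_iff_isLocallyBijective] at h ⊢
  obtain ⟨hi₁, hs₁⟩ := h
  refine ⟨⟨fun {X} x y e => ?_⟩, ⟨fun {X} r => ?_⟩⟩
  · obtain ⟨X⟩ := X
    let P' : (F.obj ⟨op i⟩)ᵒᵖ ⥤ Type u :=
      { obj := fun V => Option (R.obj V)
        map := fun f => ↾(Option.map (R.map f))
        map_id := fun V => by ext o; cases o <;> simp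
        map_comp := fun f g => by ext o; cases o <;> simp }
    choose s hs hs' using fun (V : F.obj ⟨op i⟩) (y : R.obj (op V)) =>
      exists_section (P := P') (fun _ => (none : Option _)) (fun _ _ _ => rfl) (U := V)
        (some y : Option (R.obj (op V)))
    let σ : R ⟶ (ι F i).op ⋙ ranι P' :=
      { app := fun V => ↾fun y => s V.unop y
        naturality := fun V V' r => by
          ext y
          refine ev_ext fun W h => ?_
          refine Eq.trans ?_ (ev_restrict ((ι F i).map r.unop) (s V.unop y) h).symm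
          by_cases hb : h.base = 𝟙 i
          · obtain ⟨m, rfl⟩ := exists_vert h hb
            refine (hs _ _ W m).trans (Eq.trans ?_
              ((congrArg (ev _) ((ι F i).map_comp m _).symm).trans
                (hs _ y W (m ≫ r.unop))).symm)
            exact congrArg some (Functor.map_comp_apply R _ _ y).symm
          · refine (hs' _ _ W h hb).trans (hs' _ y W _ ?_).symm
            exact fun hc => hb ((Category.comp_id h.base).symm.trans hc) }
    let σ' := (((ι F i).op.lanAdjunction (Type u)).homEquiv _ _).symm σ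
    have hσ : ∀ (W : F.obj ⟨op i⟩) (z : R.obj (op W)),
        σ'.app (op ((ι F i).obj W)) (((ι F i).op.lanUnit.app R).app (op W) z) = s W z := by
      intro W z
      have h1 := (((ι F i).op.lanAdjunction (Type u)).homEquiv _ _).apply_symm_apply σ
      rw [Adjunction.homEquiv_unit] at h1
      exact ConcreteCategory.congr_hom (congr_app h1 (op W)) z
    have hinj : ∀ (W : F.obj ⟨op i⟩) (z z' : R.obj (op W)),
        elem (ι F i) R (𝟙 _) z = elem (ι F i) R (𝟙 _) z' → z = z' := by
      intro W z z' e
      rw [elem, elem, op_id, Functor.map_id_apply, Functor.map_id_apply] at e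
      have h2 := congrArg (σ'.app (op ((ι F i).obj W))) e
      rw [hσ, hσ] at h2
      have h3 := ((hs W z W (𝟙 W)).symm.trans
        (congrArg (fun t => ev t ((ι F i).map (𝟙 W))) h2)).trans (hs W z' W (𝟙 W))
      rw [op_id, Functor.map_id_apply, Functor.map_id_apply] at h3
      exact Option.some_injective _ h3
    have hl := loc_fibre hF (loc_of_mem (Presheaf.equalizerSieve_mem (FibSite.totalTopology F J)
      (((ι F i).op.lan).map u') (X := op ((ι F i).obj X)) (elem (ι F i) R (𝟙 _) x)
      (elem (ι F i) R (𝟙 _) y) (by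
        rw [elem_natural, elem_natural]
        exact congrArg _ e)))
    refine mem_of_loc (hl.mono fun W g hg => hinj W _ _ ?_)
    have hg' : ((ι F i).op.lan.obj R).map ((ι F i).map g).op (elem (ι F i) R (𝟙 _) x) =
        ((ι F i).op.lan.obj R).map ((ι F i).map g).op (elem (ι F i) R (𝟙 _) y) := hg
    rw [elem_restrict, elem_restrict, Category.comp_id] at hg'
    rw [← elem_map, ← elem_map, Category.id_comp]
    exact hg'
  · have hl := loc_fibre hF (loc_of_mem (Presheaf.imageSieve_mem (FibSite.totalTopology F J)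
      (((ι F i).op.lan).map u') (U := op ((ι F i).obj X))
      (elem (ι F i) (yoneda.obj U) (𝟙 _) r)))
    refine mem_of_loc (hl.mono ?_)
    rintro W g ⟨z, hz⟩
    obtain ⟨V, k, x, rfl⟩ := elem_surjective (ι F i) R z
    rw [elem_natural, elem_restrict, Category.comp_id] at hz
    let θ₀ : yoneda.obj U ⟶ (ι F i).op ⋙ yoneda.obj ((ι F i).obj U) :=
      { app := fun T => ↾fun r => (ι F i).map r
        naturality := fun _ _ m => by ext r; exact (ι F i).map_comp m.unop r }
    let θ := (((ι F i).op.lanAdjunction (Type u)).homEquiv _ _).symm θ₀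
    have hθ : ∀ {V' : F.obj ⟨op i⟩} (k : (ι F i).obj W ⟶ (ι F i).obj V') (r' : V' ⟶ U),
        θ.app (op ((ι F i).obj W)) (elem (ι F i) (yoneda.obj U) k r') = k ≫ (ι F i).map r' := by
      intro V' k r'
      rw [elem, NatTrans.naturality_apply]
      refine congrArg (k ≫ ·) ?_
      have h1 := (((ι F i).op.lanAdjunction (Type u)).homEquiv _ _).apply_symm_apply θ₀
      rw [Adjunction.homEquiv_unit] at h1
      exact ConcreteCategory.congr_hom (congr_app h1 (op V')) r'
    have h2 := ((hθ k (u'.app (op V) x)).symm.trans (congrArg _ hz)).trans (hθ ((ι F i).map g) r)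
    obtain ⟨m, rfl⟩ := exists_vert k
      ((Category.comp_id _).symm.trans ((congrArg (fun t => (forget F).map t) h2).trans
        (Category.comp_id _)))
    refine ⟨R.map m.op x, (NatTrans.naturality_apply u' m.op x).trans ?_⟩
    exact vert_injective (((ι F i).map_comp m _).trans (h2.trans ((ι F i).map_comp g r).symm))

end W

end Groth.Agent.FibSiteLib
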