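import Mathlib.CategoryTheory.Sites.Pullback
import Mathlib.CategoryTheory.Sites.LocallyBijective
import Mathlib.CategoryTheory.Limits.Preserves.Finite
import Mathlib.CategoryTheory.Functor.KanExtension.Adjunction
import Mathlib.CategoryTheory.Limits.Types.Colimits
import Mathlib.CategoryTheory.Limits.FunctorCategory.Basic
import Mathlib.CategoryTheory.Limits.Shapes.FiniteLimits
import Groth.Agent.Lib.FibSite.Loc

/-!
# Covering flat functors, and left exactness of the inverse image on sheaves of sets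
-/

universe u

open CategoryTheory CategoryTheory.Limits Opposite

namespace Groth.Agent.FibSiteLib

variable {C D : Type u} [SmallCategory C] [SmallCategory D]

/-- Covering flatness of `G : C ⥤ D` for a topology on `D`. -/
structure CovFlat (K : GrothendieckTopology D) (G : C ⥤ D) : Prop where
  cover : ∀ U : D, Loc K U (fun W _ => ∃ V : C, Nonempty (W ⟶ G.obj V))
  prod : ∀ {U : D} {V₁ V₂ : C} (h₁ : U ⟶ G.obj V₁) (h₂ : U ⟶ G.obj V₂),
    Loc K U (fun W g => ∃ (V : C) (k : W ⟶ G.obj V) (a₁ : V ⟶ V₁) (a₂ : V ⟶ V₂),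
      k ≫ G.map a₁ = g ≫ h₁ ∧ k ≫ G.map a₂ = g ≫ h₂)
  equalize : ∀ {U : D} {V V' : C} (h : U ⟶ G.obj V) (a b : V ⟶ V'),
    h ≫ G.map a = h ≫ G.map b →
    Loc K U (fun W g => ∃ (V₀ : C) (k : W ⟶ G.obj V₀) (c : V₀ ⟶ V),
      c ≫ a = c ≫ b ∧ k ≫ G.map c = g ≫ h)

namespace CovFlat

variable {K : GrothendieckTopology D} {G : C ⥤ D}

theorem merge (hG : CovFlat K G) {U : D} {V V' T : C} (k : U ⟶ G.obj V) (k' : U ⟶ G.obj V')
    (a : V ⟶ T) (a' : V' ⟶ T) (h : k ≫ G.map a = k' ≫ G.map a') :
    Loc K U (fun W g => ∃ (V₃ : C) (k₃ : W ⟶ G.obj V₃) (c : V₃ ⟶ V) (c' : V₃ ⟶ V'),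
      c ≫ a = c' ≫ a' ∧ k₃ ≫ G.map c = g ≫ k ∧ k₃ ≫ G.map c' = g ≫ k') := by
  refine (hG.prod k k').bind ?_
  rintro W g ⟨V₂, k₂, c, c', hc, hc'⟩
  refine (hG.equalize k₂ (c ≫ a) (c' ≫ a') ?_).mono ?_
  · rw [G.map_comp, G.map_comp, ← Category.assoc, ← Category.assoc, hc, hc', Category.assoc,
      Category.assoc, h]
  · rintro W' g' ⟨V₃, k₃, d, hd, hk₃⟩
    refine ⟨V₃, k₃, d ≫ c, d ≫ c', by simpa using hd, ?_, ?_⟩
    · rw [G.map_comp, ← Category.assoc, hk₃, Category.assoc, hc, Category.assoc]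
    · rw [G.map_comp, ← Category.assoc, hk₃, Category.assoc, hc', Category.assoc]

end CovFlat

section Lan

variable (G : C ⥤ D) {K : GrothendieckTopology D}

/-- The element of the left Kan extension defined by `h` and `x`. -/
noncomputable def elem (P : Cᵒᵖ ⥤ Type u) {U : D} {V : C} (h : U ⟶ G.obj V) (x : P.obj (op V)) :
    (G.op.lan.obj P).obj (op U) :=
  (G.op.lan.obj P).map h.op ((G.op.lanUnit.app P).app (op V) x)

theorem elem_restrict (P : Cᵒᵖ ⥤ Type u) {U W : D} {V : C} (g : W ⟶ U) (h : U ⟶ G.obj V)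
    (x : P.obj (op V)) :
    (G.op.lan.obj P).map g.op (elem G P h x) = elem G P (g ≫ h) x := by
  rw [elem, elem, ← Functor.map_comp_apply]
  rfl

theorem elem_map (P : Cᵒᵖ ⥤ Type u) {U : D} {V V' : C} (h : U ⟶ G.obj V') (a : V' ⟶ V)
    (x : P.obj (op V)) :
    elem G P (h ≫ G.map a) x = elem G P h (P.map a.op x) := by
  have h1 := NatTrans.naturality_apply (G.op.lanUnit.app P) a.op x
  rw [elem, elem, op_comp, Functor.map_comp_apply]
  exact congrArg _ h1.symm

theorem elem_natural {P Q : Cᵒᵖ ⥤ Type u} (f : P ⟶ Q) {U : D} {V : C} (h : U ⟶ G.obj V)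
    (x : P.obj (op V)) :
    (G.op.lan.map f).app (op U) (elem G P h x) = elem G Q h (f.app (op V) x) := by
  rw [elem, elem, NatTrans.naturality_apply]
  exact congrArg _ (ConcreteCategory.congr_hom (congr_app (G.op.lanUnit.naturality f) (op V)) x).symm

theorem elem_surjective (P : Cᵒᵖ ⥤ Type u) {U : D} (y : (G.op.lan.obj P).obj (op U)) :
    ∃ (V : C) (h : U ⟶ G.obj V) (x : P.obj (op V)), elem G P h x = y := by
  obtain ⟨j, x, hx⟩ := Types.jointly_surjective_of_isColimit
    (Functor.isPointwiseLeftKanExtensionLeftKanExtensionUnit G.op P (op U)) y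
  exact ⟨j.left.unop, j.hom.unop, x, hx⟩

/-- Two representatives have a common refinement locally. -/
def Rel (K : GrothendieckTopology D) (P : Cᵒᵖ ⥤ Type u) {U : D}
    (e e' : Σ V : C, (U ⟶ G.obj V) × P.obj (op V)) : Prop :=
  Loc K U (fun W g => ∃ (V₀ : C) (k : W ⟶ G.obj V₀) (a : V₀ ⟶ e.1) (b : V₀ ⟶ e'.1),
    k ≫ G.map a = g ≫ e.2.1 ∧ k ≫ G.map b = g ≫ e'.2.1 ∧
      P.map a.op e.2.2 = P.map b.op e'.2.2)

theorem rel_equivalence (hG : CovFlat K G) (P : Cᵒᵖ ⥤ Type u) (U : D) :
    Equivalence (Rel G K P (U := U)) where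
  refl e := Loc.of_forall fun W g =>
    ⟨e.1, g ≫ e.2.1, 𝟙 _, 𝟙 _, by simp, by simp, rfl⟩
  symm h := h.mono fun W g ⟨V₀, k, a, b, h₁, h₂, h₃⟩ => ⟨V₀, k, b, a, h₂, h₁, h₃.symm⟩
  trans {e₁ e₂ e₃} h h' := by
    refine (h.inter h').bind ?_
    rintro W g ⟨⟨V, k, a, b, ha, hb, hab⟩, ⟨V', k', a', b', ha', hb', hab'⟩⟩
    refine (hG.merge k k' b a' (hb.trans ha'.symm)).mono ?_
    rintro W' g' ⟨V₃, k₃, c, c', hcc, hc, hc'⟩
    refine ⟨V₃, k₃, c ≫ a, c' ≫ b', ?_, ?_, ?_⟩
    · rw [G.map_comp, ← Category.assoc, hc, Category.assoc, ha, Category.assoc]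
    · rw [G.map_comp, ← Category.assoc, hc', Category.assoc, hb', Category.assoc]
    · rw [op_comp, op_comp, Functor.map_comp_apply, Functor.map_comp_apply, hab, ← hab',
        ← Functor.map_comp_apply, ← Functor.map_comp_apply, ← op_comp, ← op_comp, hcc]

/-- Equal elements of the left Kan extension have locally common refinements. -/
theorem rel_of_elem_eq (hG : CovFlat K G) (P : Cᵒᵖ ⥤ Type u) {U : D} {V V' : C}
    {h : U ⟶ G.obj V} {h' : U ⟶ G.obj V'} {x : P.obj (op V)} {x' : P.obj (op V')}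
    (e : elem G P h x = elem G P h' x') : Rel G K P ⟨V, h, x⟩ ⟨V', h', x'⟩ := by
  let s : Setoid (Σ V : C, (U ⟶ G.obj V) × P.obj (op V)) :=
    ⟨Rel G K P, rel_equivalence G hG P U⟩
  let c : Cocone (CostructuredArrow.proj G.op (op U) ⋙ P) :=
    { pt := Quotient s
      ι :=
        { app := fun j => ↾fun x => Quotient.mk s ⟨j.left.unop, j.hom.unop, x⟩
          naturality := fun j j' m => by
            ext x
            dsimp
            refine Quotient.sound (show Rel G K P _ _ from Loc.of_forall fun W g => ?_)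
            refine ⟨j'.left.unop, g ≫ j'.hom.unop, 𝟙 _, m.left.unop, by simp, ?_, ?_⟩
            · rw [Category.assoc]
              exact congrArg (g ≫ ·) (congrArg Quiver.Hom.unop (CostructuredArrow.w m))
            · rw [op_id, Functor.map_id_apply]; rfl } }
  let hc := Functor.isPointwiseLeftKanExtensionLeftKanExtensionUnit G.op P (op U)
  have h1 := congrArg (hc.desc c) e
  exact Quotient.exact (s := s)
    (((ConcreteCategory.congr_hom (hc.fac c (CostructuredArrow.mk h.op)) x).symm.trans h1).trans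
      (ConcreteCategory.congr_hom (hc.fac c (CostructuredArrow.mk h'.op)) x'))

end Lan

section FiniteLimits

variable {E : Type u} [SmallCategory E] {I : Type} [SmallCategory I] {Q : I ⥤ Eᵒᵖ ⥤ Type u}
  {c : Cone Q} (hc : IsLimit c)

include hc in
theorem pt_ext {U : Eᵒᵖ} {x y : c.pt.obj U}
    (h : ∀ i, (c.π.app i).app U x = (c.π.app i).app U y) : x = y :=
  (Types.isLimitEquivSections (isLimitOfPreserves ((evaluation _ _).obj U) hc)).injective
    (Subtype.ext (funext h))

include hc in
theorem pt_exists {U : Eᵒᵖ} (v : ∀ i, (Q.obj i).obj U)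
    (hv : ∀ {i i' : I} (f : i ⟶ i'), (Q.map f).app U (v i) = v i') :
    ∃ x : c.pt.obj U, ∀ i, (c.π.app i).app U x = v i := by
  let e := Types.isLimitEquivSections (isLimitOfPreserves ((evaluation _ _).obj U) hc)
  refine ⟨e.symm ⟨v, fun f => hv f⟩, fun i => ?_⟩
  exact congrFun (congrArg Subtype.val (e.apply_symm_apply ⟨v, fun f => hv f⟩)) i

end FiniteLimits

section LE

variable {G : C ⥤ D} {K : GrothendieckTopology D}

theorem W_lift_of_covFlat (hG : CovFlat K G) {I : Type} [SmallCategory I] [FinCategory I]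
    {Q : I ⥤ Cᵒᵖ ⥤ Type u} {c : Cone Q} (hc : IsLimit c) {d : Cone (Q ⋙ G.op.lan)}
    (hd : IsLimit d) : K.W (hd.lift (G.op.lan.mapCone c)) := by
  classical
  set φ := hd.lift (G.op.lan.mapCone c)
  have hφ : ∀ (i : I) (U : D) (z : (G.op.lan.obj c.pt).obj (op U)),
      (d.π.app i).app (op U) (φ.app (op U) z) = (G.op.lan.map (c.π.app i)).app (op U) z :=
    fun i U z => ConcreteCategory.congr_hom (congr_app (hd.fac (G.op.lan.mapCone c) i) (op U)) z
  rw [GrothendieckTopology.W_iff_isLocallyBijective]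
  constructor
  · constructor
    intro U x y hxy
    obtain ⟨U⟩ := U
    obtain ⟨V, h, a, rfl⟩ := elem_surjective G c.pt x
    obtain ⟨V', h', a', rfl⟩ := elem_surjective G c.pt y
    have hrel : ∀ i, Rel G K (Q.obj i) ⟨V, h, (c.π.app i).app _ a⟩ ⟨V', h', (c.π.app i).app _ a'⟩ :=
      fun i => rel_of_elem_eq G hG _ (by
        exact (elem_natural G (c.π.app i) h a).symm.trans ((hφ i U _).symm.trans
          ((congrArg ((d.π.app i).app (op U)) hxy).trans
            ((hφ i U _).trans (elem_natural G (c.π.app i) h' a')))))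
    have main : ∀ s : Finset I, Loc K U (fun W g => ∃ (V₀ : C) (k : W ⟶ G.obj V₀) (p : V₀ ⟶ V)
        (q : V₀ ⟶ V'), k ≫ G.map p = g ≫ h ∧ k ≫ G.map q = g ≫ h' ∧
        ∀ i ∈ s, (Q.obj i).map p.op ((c.π.app i).app _ a) =
          (Q.obj i).map q.op ((c.π.app i).app _ a')) := by
      intro s
      induction s using Finset.induction_on with
      | empty =>
        refine (hG.prod h h').mono fun W g ⟨V₀, k, p, q, hp, hq⟩ => ?_
        exact ⟨V₀, k, p, q, hp, hq, by simp⟩
      | insert i s _ ih =>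
        refine (ih.inter (hrel i)).bind ?_
        rintro W g ⟨⟨V₁, k₁, p₁, q₁, hp₁, hq₁, hs⟩, ⟨V₂, k₂, p₂, q₂, hp₂, hq₂, hi⟩⟩
        refine (hG.merge k₁ k₂ p₁ p₂ (hp₁.trans hp₂.symm)).bind ?_
        rintro W' g' ⟨V₃, k₃, e₁, e₂, he, hk₁, hk₂⟩
        refine (hG.equalize k₃ (e₁ ≫ q₁) (e₂ ≫ q₂) ?_).mono ?_
        · rw [G.map_comp, G.map_comp, ← Category.assoc, ← Category.assoc, hk₁, hk₂,
            Category.assoc, Category.assoc, hq₁, hq₂]
        · rintro W'' g'' ⟨V₄, k₄, e, hee, hk₄⟩
          refine ⟨V₄, k₄, e ≫ e₁ ≫ p₁, e ≫ e₁ ≫ q₁, ?_, ?_, ?_⟩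
          · rw [G.map_comp, G.map_comp, ← Category.assoc, hk₄, Category.assoc,
              reassoc_of% hk₁, hp₁]
            simp
          · rw [G.map_comp, G.map_comp, ← Category.assoc, hk₄, Category.assoc,
              reassoc_of% hk₁, hq₁]
            simp
          · intro j hj
            rcases Finset.mem_insert.1 hj with rfl | hj
            · rw [he, hee]
              simp only [op_comp, Functor.map_comp_apply]
              rw [hi]
            · simp only [op_comp, Functor.map_comp_apply]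
              rw [hs j hj]
    refine mem_of_loc ((main Finset.univ).mono fun W g ⟨V₀, k, p, q, hp, hq, hs⟩ => ?_)
    show (G.op.lan.obj c.pt).map g.op _ = (G.op.lan.obj c.pt).map g.op _
    rw [elem_restrict, elem_restrict, ← hp, ← hq, elem_map, elem_map]
    congr 1
    refine pt_ext hc fun i => ?_
    exact (NatTrans.naturality_apply (c.π.app i) p.op a).trans
      ((hs i (Finset.mem_univ _)).trans (NatTrans.naturality_apply (c.π.app i) q.op a').symm)
  · constructor
    intro U y
    refine mem_of_loc ?_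
    choose Vi hi vi hvi using fun i => elem_surjective G (Q.obj i) ((d.π.app i).app (op U) y)
    have objs : ∀ s : Finset I, Loc K U (fun W g => ∃ (V : C) (k : W ⟶ G.obj V),
        ∀ i ∈ s, ∃ v : (Q.obj i).obj (op V),
          (G.op.lan.obj (Q.obj i)).map g.op ((d.π.app i).app (op U) y) =
          elem G (Q.obj i) k v) := by
      intro s
      induction s using Finset.induction_on with
      | empty => exact (hG.cover U).mono fun W g ⟨V, ⟨k⟩⟩ => ⟨V, k, by simp⟩
      | insert i s _ ih =>
        refine ih.bind ?_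
        rintro W g ⟨V, k, hk⟩
        refine (hG.prod k (g ≫ hi i)).mono ?_
        rintro W' g' ⟨V', k', a₁, a₂, h₁, h₂⟩
        refine ⟨V', k', fun j hj => ?_⟩
        rcases Finset.mem_insert.1 hj with rfl | hj
        · refine ⟨(Q.obj j).map a₂.op (vi j), ?_⟩
          rw [← elem_map, h₂, ← hvi j]
          exact (elem_restrict G _ _ _ _).trans (by rw [Category.assoc])
        · obtain ⟨v, hv⟩ := hk j hj
          refine ⟨(Q.obj j).map a₁.op v, ?_⟩
          rw [← elem_map, h₁, ← elem_restrict, ← hv, op_comp, Functor.map_comp_apply]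
    refine (objs Finset.univ).bind ?_
    rintro W g ⟨V, k, hk⟩
    choose v hv using fun i => hk i (Finset.mem_univ i)
    have arrows : ∀ s : Finset (Σ i i' : I, i ⟶ i'), Loc K W (fun W' g' =>
        ∃ (V₀ : C) (k₀ : W' ⟶ G.obj V₀) (a : V₀ ⟶ V), k₀ ≫ G.map a = g' ≫ k ∧
          ∀ e ∈ s, (Q.obj e.2.1).map a.op ((Q.map e.2.2).app _ (v e.1)) =
            (Q.obj e.2.1).map a.op (v e.2.1)) := by
      intro s
      induction s using Finset.induction_on with
      | empty => exact Loc.of_forall fun W' g' => ⟨V, g' ≫ k, 𝟙 _, by simp, by simp⟩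
      | insert e s _ ih =>
        obtain ⟨i, i', f⟩ := e
        refine ih.bind ?_
        rintro W₁ g₁ ⟨V₀, k₀, a, ha, hs⟩
        have heq : elem G (Q.obj i') k₀ ((Q.obj i').map a.op ((Q.map f).app _ (v i))) =
            elem G (Q.obj i') k₀ ((Q.obj i').map a.op (v i')) := by
          rw [← elem_map, ← elem_map, ha, ← elem_restrict, ← elem_restrict, ← hv i',
            ← elem_natural, ← hv i]
          refine congrArg _ ?_
          exact (NatTrans.naturality_apply (G.op.lan.map (Q.map f)) g.op _).trans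
            (congrArg _ (ConcreteCategory.congr_hom (congr_app (d.w f) (op U)) y))
        refine (rel_of_elem_eq G hG _ heq).bind ?_
        rintro W₂ g₂ ⟨V₁, k₁, p, q, hp, hq, hpq⟩
        refine (hG.equalize k₁ p q (hp.trans hq.symm)).mono ?_
        rintro W₃ g₃ ⟨V₂, k₂, c', hc', hk₂⟩
        refine ⟨V₂, k₂, c' ≫ p ≫ a, ?_, ?_⟩
        · rw [G.map_comp, G.map_comp, ← Category.assoc, hk₂, Category.assoc, reassoc_of% hp, ha]
          simp
        · intro e he
          rcases Finset.mem_insert.1 he with rfl | he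
          · dsimp only
            simp only [op_comp, Functor.map_comp_apply]
            dsimp only at hpq
            rw [hpq]
            simp only [← Functor.map_comp_apply, Category.assoc, ← op_comp]
            rw [← reassoc_of% hc']
          · simp only [op_comp, Functor.map_comp_apply]
            rw [hs e he]
    refine (arrows Finset.univ).mono ?_
    rintro W' g' ⟨V₀, k₀, a, ha, hs⟩
    obtain ⟨x, hx⟩ := pt_exists hc (U := op V₀) (fun i => (Q.obj i).map a.op (v i))
      (fun {i i'} f => by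
        rw [NatTrans.naturality_apply]
        exact hs ⟨i, i', f⟩ (Finset.mem_univ _))
    refine ⟨elem G c.pt k₀ x, ?_⟩
    refine pt_ext hd fun i => ?_
    refine ((hφ i W' _).trans ((elem_natural G (c.π.app i) k₀ x).trans
      ((congrArg (elem G (Q.obj i) k₀) (hx i)).trans ?_))).trans
      (NatTrans.naturality_apply (d.π.app i) (g' ≫ g).op y).symm
    rw [← elem_map, ha, ← elem_restrict, ← hv i]
    exact (Functor.map_comp_apply (G.op.lan.obj (Q.obj i)) g.op g'.op _).symm

theorem preservesFiniteLimits_lan_sheafify (hG : CovFlat K G) :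
    PreservesFiniteLimits (G.op.lan ⋙ presheafToSheaf K (Type u)) where
  preservesFiniteLimits I _ _ := ⟨fun {Q} => ⟨fun {c} hc => ⟨by
    have hd := limit.isLimit (Q ⋙ G.op.lan)
    have hW := W_lift_of_covFlat hG hc hd
    rw [GrothendieckTopology.W_iff] at hW
    refine IsLimit.ofIsoLimit (isLimitOfPreserves (presheafToSheaf K (Type u)) hd)
      (Cone.ext (asIso ((presheafToSheaf K (Type u)).map (hd.lift (G.op.lan.mapCone c)))).symm
        fun i => ?_)
    simp only [Iso.symm_hom, asIso_inv, IsIso.eq_inv_comp]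
    exact ((presheafToSheaf K (Type u)).map_comp _ _).symm.trans
      (congrArg _ (hd.fac (G.op.lan.mapCone c) i))⟩⟩⟩

variable {J : GrothendieckTopology C} [G.IsContinuous J K]

theorem preservesFiniteLimits_sheafPullback (hG : CovFlat K G) :
    PreservesFiniteLimits (G.sheafPullback (Type u) J K) := by
  have := preservesFiniteLimits_lan_sheafify hG
  have : PreservesFiniteLimits
      (Functor.sheafPullbackConstruction.sheafPullback G (Type u) J K) :=
    comp_preservesFiniteLimits (sheafToPresheaf J (Type u))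
      (G.op.lan ⋙ presheafToSheaf K (Type u))
  exact preservesFiniteLimits_of_natIso
    (Functor.sheafPullbackConstruction.sheafPullbackIso G (Type u) J K).symm

theorem lan_sheafify_of_sheafPullback (h : PreservesFiniteLimits (G.sheafPullback (Type u) J K)) :
    PreservesFiniteLimits (G.op.lan ⋙ presheafToSheaf K (Type u)) := by
  have hW : ∀ P : Cᵒᵖ ⥤ Type u,
      IsIso ((G.op.lan ⋙ presheafToSheaf K (Type u)).map (toSheafify J P)) := fun P => by
    rw [Functor.comp_map, ← GrothendieckTopology.W_iff]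
    exact G.W_map_of_adjunction_of_isContinuous J K _ (G.op.lanAdjunction (Type u)) _
      (J.W_toSheafify P)
  let e : G.op.lan ⋙ presheafToSheaf K (Type u) ≅
      presheafToSheaf J (Type u) ⋙ G.sheafPullback (Type u) J K :=
    NatIso.ofComponents (fun P =>
      (@asIso _ _ _ _ _ (hW P)) ≪≫
        ((Functor.sheafPullbackConstruction.sheafPullbackIso G (Type u) J K).app
          ((presheafToSheaf J (Type u)).obj P)).symm) (fun {P P'} f => by
      have h1 := (Functor.sheafPullbackConstruction.sheafPullbackIso G (Type u) J K).inv.naturality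
        ((presheafToSheaf J (Type u)).map f)
      have h2 : f ≫ toSheafify J P' = toSheafify J P ≫
          ((presheafToSheaf J (Type u)).map f).hom := toSheafify_naturality J f
      simp only [Iso.trans_hom, Iso.symm_hom, Iso.app_inv, asIso_hom, Functor.comp_map,
        Category.assoc]
      refine Eq.trans (Category.assoc _ _ _).symm (Eq.trans ?_ (congrArg (_ ≫ ·) h1))
      refine Eq.trans ?_ (Category.assoc _ _ _)
      refine congrArg (· ≫ _) ?_
      exact ((G.op.lan ⋙ presheafToSheaf K (Type u)).map_comp f (toSheafify J P')).symm.trans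
        ((congrArg _ h2).trans ((G.op.lan ⋙ presheafToSheaf K (Type u)).map_comp _ _)))
  have : PreservesFiniteLimits (presheafToSheaf J (Type u) ⋙ G.sheafPullback (Type u) J K) :=
    comp_preservesFiniteLimits _ _
  exact preservesFiniteLimits_of_natIso e.symm

/-- A finite family of sections of left Kan extensions lifts locally along a limit. -/
theorem loc_lift (h : PreservesFiniteLimits (G.op.lan ⋙ presheafToSheaf K (Type u)))
    {I : Type} [SmallCategory I] [FinCategory I] (Q : I ⥤ Cᵒᵖ ⥤ Type u) {U : D}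
    (y : ∀ i, (G.op.lan.obj (Q.obj i)).obj (op U))
    (hy : ∀ {i i' : I} (f : i ⟶ i'), (G.op.lan.map (Q.map f)).app (op U) (y i) = y i') :
    Loc K U (fun W g => ∃ (V : C) (k : W ⟶ G.obj V) (x : (limit Q).obj (op V)),
      ∀ i, (G.op.lan.obj (Q.obj i)).map g.op (y i) =
        elem G (Q.obj i) k ((limit.π Q i).app (op V) x)) := by
  have hc := limit.isLimit Q
  have hd := limit.isLimit (Q ⋙ G.op.lan)
  let a := presheafToSheaf K (Type u)
  let φ := hd.lift (G.op.lan.mapCone (limit.cone Q))
  have hiso : IsIso (a.map φ) := by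
    have h1 := isLimitOfPreserves (G.op.lan ⋙ a) hc
    have h2 := isLimitOfPreserves a hd
    have : a.map φ = (IsLimit.conePointUniqueUpToIso h1 h2).hom := h2.hom_ext fun i => by
      refine Eq.trans ?_ (IsLimit.conePointUniqueUpToIso_hom_comp h1 h2 i).symm
      exact (a.map_comp _ _).symm.trans (congrArg _ (hd.fac (G.op.lan.mapCone (limit.cone Q)) i))
    rw [this]
    infer_instance
  have hW : K.W φ := (GrothendieckTopology.W_iff K φ).2 hiso
  have := hW.isLocallySurjective
  obtain ⟨yy, hyy⟩ := pt_exists hd (U := op U) (fun i => y i) (fun f => hy f)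
  refine (loc_of_mem (Presheaf.imageSieve_mem K φ yy)).mono ?_
  rintro W g ⟨z, hz⟩
  obtain ⟨V, k, x, rfl⟩ := elem_surjective G _ z
  refine ⟨V, k, x, fun i => ?_⟩
  have h5 := ConcreteCategory.congr_hom (congr_app
    (hd.fac (G.op.lan.mapCone (limit.cone Q)) i) (op W)) (elem G (limit Q) k x)
  refine Eq.trans ?_ (h5.trans (elem_natural G (limit.π Q i) k x))
  refine Eq.trans ?_ (congrArg (((limit.cone (Q ⋙ G.op.lan)).π.app i).app (op W)) hz.symm)
  rw [← hyy i]
  exact (NatTrans.naturality_apply ((limit.cone (Q ⋙ G.op.lan)).π.app i) g.op yy).symm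

theorem covFlat_of_lan_sheafify
    (h : PreservesFiniteLimits (G.op.lan ⋙ presheafToSheaf K (Type u))) : CovFlat K G := by
  let θ : ∀ V : C, G.op.lan.obj (yoneda.obj V) ⟶ yoneda.obj (G.obj V) := fun V =>
    ((G.op.lanAdjunction (Type u)).homEquiv _ _).symm
      { app := fun T => ↾fun r => G.map r
        naturality := fun _ _ m => by ext r; exact G.map_comp m.unop r }
  have hθ : ∀ {V V' : C} {W : D} (k : W ⟶ G.obj V') (r : V' ⟶ V),
      (θ V).app (op W) (elem G (yoneda.obj V) k r) = k ≫ G.map r := by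
    intro V V' W k r
    rw [elem, NatTrans.naturality_apply]
    refine congrArg (k ≫ ·) ?_
    have h1 := ((G.op.lanAdjunction (Type u)).homEquiv _ _).apply_symm_apply
      ({ app := fun T => ↾fun r => G.map r
         naturality := fun _ _ m => by ext r; exact G.map_comp m.unop r } :
        yoneda.obj V ⟶ G.op ⋙ yoneda.obj (G.obj V))
    rw [Adjunction.homEquiv_unit] at h1
    exact ConcreteCategory.congr_hom (congr_app h1 (op V')) r
  refine ⟨fun U => ?_, fun {U V₁ V₂} h₁ h₂ => ?_, fun {U V V'} h₁ a b hab => ?_⟩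
  · refine (loc_lift h (Functor.empty.{0} (Cᵒᵖ ⥤ Type u)) (U := U) (fun i => i.as.elim)
      (fun {i} => i.as.elim)).mono ?_
    rintro W g ⟨V, k, -⟩
    exact ⟨V, ⟨k⟩⟩
  · refine (loc_lift h (pair (yoneda.obj V₁) (yoneda.obj V₂)) (U := U)
      (fun ⟨i⟩ => match i with
        | .left => elem G (yoneda.obj V₁) h₁ (𝟙 V₁)
        | .right => elem G (yoneda.obj V₂) h₂ (𝟙 V₂)) ?_).mono ?_
    · rintro ⟨i⟩ ⟨i'⟩ f
      obtain rfl : i = i' := Discrete.eq_of_hom f
      obtain rfl := Subsingleton.elim f (𝟙 _)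
      rw [CategoryTheory.Functor.map_id, CategoryTheory.Functor.map_id]
      rfl
    rintro W g ⟨V, k, x, hx⟩
    let r₁ : V ⟶ V₁ := (limit.π (pair (yoneda.obj V₁) (yoneda.obj V₂)) ⟨.left⟩).app (op V) x
    let r₂ : V ⟶ V₂ := (limit.π (pair (yoneda.obj V₁) (yoneda.obj V₂)) ⟨.right⟩).app (op V) x
    have h₃ : elem G (yoneda.obj V₁) (g ≫ h₁) (𝟙 V₁) = elem G (yoneda.obj V₁) k r₁ :=
      (elem_restrict G (yoneda.obj V₁) g h₁ (𝟙 V₁)).symm.trans (hx ⟨.left⟩)
    have h₄ : elem G (yoneda.obj V₂) (g ≫ h₂) (𝟙 V₂) = elem G (yoneda.obj V₂) k r₂ :=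
      (elem_restrict G (yoneda.obj V₂) g h₂ (𝟙 V₂)).symm.trans (hx ⟨.right⟩)
    refine ⟨V, k, r₁, r₂, ?_, ?_⟩
    · simpa using ((hθ _ _).symm.trans ((congrArg ((θ V₁).app (op W)) h₃).trans (hθ _ _))).symm
    · simpa using ((hθ _ _).symm.trans ((congrArg ((θ V₂).app (op W)) h₄).trans (hθ _ _))).symm
  · refine (loc_lift h (parallelPair (yoneda.map a) (yoneda.map b)) (U := U)
      (fun i => match i with
        | .zero => elem G (yoneda.obj V) h₁ (𝟙 V)
        | .one => elem G (yoneda.obj V') (h₁ ≫ G.map a) (𝟙 V')) ?_).mono ?_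
    · rintro i i' (_ | _ | _)
      · refine (elem_natural G (yoneda.map a) h₁ (𝟙 V)).trans ?_
        refine Eq.trans ?_ (elem_map G (yoneda.obj V') h₁ a (𝟙 V')).symm
        simp
      · refine (elem_natural G (yoneda.map b) h₁ (𝟙 V)).trans ?_
        rw [hab]
        refine Eq.trans ?_ (elem_map G (yoneda.obj V') h₁ b (𝟙 V')).symm
        simp
      · rw [walkingParallelPairHom_id, CategoryTheory.Functor.map_id,
          CategoryTheory.Functor.map_id]
        rfl
    rintro W g ⟨V₀, k, x, hx⟩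
    let r : V₀ ⟶ V :=
      (limit.π (parallelPair (yoneda.map a) (yoneda.map b)) WalkingParallelPair.zero).app (op V₀) x
    have h₃ : elem G (yoneda.obj V) (g ≫ h₁) (𝟙 V) = elem G (yoneda.obj V) k r :=
      (elem_restrict G (yoneda.obj V) g h₁ (𝟙 V)).symm.trans (hx WalkingParallelPair.zero)
    refine ⟨V₀, k, r, ?_, ?_⟩
    · have ha := ConcreteCategory.congr_hom (congr_app
        (limit.w (parallelPair (yoneda.map a) (yoneda.map b)) WalkingParallelPairHom.left) (op V₀)) x
      have hb := ConcreteCategory.congr_hom (congr_app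
        (limit.w (parallelPair (yoneda.map a) (yoneda.map b)) WalkingParallelPairHom.right) (op V₀)) x
      exact ha.trans hb.symm
    · simpa using ((hθ _ _).symm.trans ((congrArg ((θ V).app (op W)) h₃).trans (hθ _ _))).symm

theorem covFlat_of_sheafPullback (h : PreservesFiniteLimits (G.sheafPullback (Type u) J K)) :
    CovFlat K G :=
  covFlat_of_lan_sheafify (lan_sheafify_of_sheafPullback h)

end LE

end Groth.Agent.FibSiteLib
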