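import Groth.Agent.Lib.FibSite.Transfer
import Groth.Agent.Lib.FibSite.Ran

/-!
# A cartesian morphism of total sites is fibrewise a morphism of sites
-/

universe u

open CategoryTheory CategoryTheory.Limits Opposite Pseudofunctor Pseudofunctor.CoGrothendieck
open scoped CategoryTheory.Pseudofunctor.StrongTrans

namespace Groth.Agent.FibSiteLib

variable {𝒮 : Type u} [SmallCategory 𝒮]
  {F G : Pseudofunctor (LocallyDiscrete 𝒮ᵒᵖ) Cat.{u, u}} {α : G ⟶ F}
  {J : FibSite.Topologies F} {K : FibSite.Topologies G}

theorem coverPreserving_fibre (hF : FibSite.IsPreFibSite F J)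
    [(total α).IsContinuous (FibSite.totalTopology G K) (FibSite.totalTopology F J)] (S : 𝒮) :
    CoverPreserving (K S) (J S) (fibFun α S) where
  cover_preserve {V R} hR := by
    have h1 := (CoverPreserving.of_isContinuous (total α) (FibSite.totalTopology G K)
      (FibSite.totalTopology F J)).cover_preserve
        (FibSite.functorPushforward_mem_totalTopology (F := G) hR)
    have := isCocontinuous_ι hF S
    refine (J S).superset_covering ?_ ((ι F S).cover_lift (J S) (FibSite.totalTopology F J)
      (U := (fibFun α S).obj V) h1)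
    rintro W g ⟨X, a, k, ⟨Z, r, k₂, hr, rfl⟩, e⟩
    have e' : (ι F S).map g = (k ≫ (total α).map k₂) ≫ (ι F S).map ((fibFun α S).map r) := by
      exact (e.trans ((congrArg (k ≫ ·) ((total α).map_comp k₂ ((ι G S).map r))).trans
        (Category.assoc _ _ _).symm)).trans
        (congrArg ((k ≫ (total α).map k₂) ≫ ·) (total_vert α r))
    have hb : ((k ≫ (total α).map k₂) : (ι F S).obj W ⟶ (ι F S).obj ((fibFun α S).obj Z)).base =
        𝟙 S :=
      ((congrArg (fun t => (forget F).map t) e').trans (Category.comp_id _)).symm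
    obtain ⟨m, hm⟩ := exists_vert _ hb
    refine ⟨Z, r, m, hr, vert_injective ?_⟩
    exact e'.trans ((congrArg (· ≫ (ι F S).map ((fibFun α S).map r)) hm.symm).trans
      ((ι F S).map_comp _ _).symm)

/-- A pointed sheaf stays a sheaf along the fibre functor. -/
theorem isSheaf_comp_of_pointed (hF : FibSite.IsPreFibSite F J) (hG : FibSite.IsPreFibSite G K)
    [(total α).IsContinuous (FibSite.totalTopology G K) (FibSite.totalTopology F J)] (S : 𝒮)
    (b : (F.obj ⟨op S⟩)ᵒᵖ ⥤ Type u) (hb : Presieve.IsSheaf (J S) b)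
    (pt : ∀ V : F.obj ⟨op S⟩, b.obj (op V))
    (hpt : ∀ (V V' : F.obj ⟨op S⟩) (r : V' ⟶ V), b.map r.op (pt V) = pt V') :
    Presieve.IsSheaf (K S) ((fibFun α S).op ⋙ b) := by
  have := isCocontinuous_ι hF S
  have := isContinuous_ι hG S
  have h1 : Presieve.IsSheaf (FibSite.totalTopology F J) (ranι b) :=
    (isSheaf_iff_isSheaf_of_type _ _).1 (ran_isSheaf_of_isCocontinuous (ι F S)
      (FibSite.totalTopology F J) ⟨b, (isSheaf_iff_isSheaf_of_type _ _).2 hb⟩)
  have h2 : Presieve.IsSheaf (K S) ((ι G S).op ⋙ (total α).op ⋙ ranι b) :=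
    (ι G S).op_comp_isSheaf_of_isSheaf_type (K S)
      ((total α).op_comp_isSheaf_of_isSheaf_type (FibSite.totalTopology G K) h1)
  have hmap : ∀ {V V' : G.obj ⟨op S⟩} (r : V' ⟶ V)
      (x : (ranι b).obj (op ((ι F S).obj ((fibFun α S).obj V)))),
      ((ι G S).op ⋙ (total α).op ⋙ ranι b).map r.op x =
        (ranι b).map ((ι F S).map ((fibFun α S).map r)).op x :=
    fun {V V'} r x => congrArg (fun k : (ι F S).obj ((fibFun α S).obj V') ⟶
      (ι F S).obj ((fibFun α S).obj V) => (ranι b).map k.op x) (total_vert α r)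
  choose s hs hs' using fun (U : F.obj ⟨op S⟩) (y : b.obj (op U)) =>
    exists_section (P := b) pt hpt y
  refine isSheaf_of_retract
    { app := fun V => ↾fun x => ev (P := b) (X := (ι F S).obj ((fibFun α S).obj V.unop)) x (𝟙 _)
      naturality := fun V V' r => ?_ }
    { app := fun V => ↾fun y => s ((fibFun α S).obj V.unop) y
      naturality := fun V V' r => ?_ } ?_ h2
  · ext x
    refine (congrArg (fun t => ev (P := b) (X := (ι F S).obj ((fibFun α S).obj V'.unop)) t (𝟙 _))
      (hmap r.unop x)).trans ?_
    refine (ev_restrict ((ι F S).map ((fibFun α S).map r.unop)) x (𝟙 _)).trans ?_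
    refine Eq.trans ?_ (ev_vert x ((fibFun α S).map r.unop) (𝟙 _))
    exact congrArg (ev (P := b) x) ((Category.id_comp _).trans (Category.comp_id _).symm)
  · ext y
    refine Eq.trans ?_ (hmap r.unop _).symm
    refine ev_ext fun W h => ?_
    refine Eq.trans ?_ (ev_restrict ((ι F S).map ((fibFun α S).map r.unop)) _ h).symm
    by_cases hb' : h.base = 𝟙 S
    · obtain ⟨m, rfl⟩ := exists_vert h hb'
      refine (hs _ _ W m).trans (Eq.trans ?_ ((congrArg (ev _) ((ι F S).map_comp m _).symm).trans
        (hs _ y W (m ≫ (fibFun α S).map r.unop))).symm)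
      exact (Functor.map_comp_apply b _ _ y).symm
    · refine (hs' _ _ W h hb').trans (hs' _ y W _ ?_).symm
      exact fun hc => hb' ((Category.comp_id h.base).symm.trans hc)
  · ext V y
    show ev (s _ y) (𝟙 _) = y
    have h := hs ((fibFun α S).obj V.unop) y _ (𝟙 _)
    rw [CategoryTheory.Functor.map_id, op_id, Functor.map_id_apply] at h
    exact h

/-- Every sheaf of sets embeds in a sheaf with a global section. -/
theorem exists_pointed_embedding {C : Type u} [SmallCategory C] (T : GrothendieckTopology C)
    (a : Cᵒᵖ ⥤ Type u) (ha : Presieve.IsSheaf T a) :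
    ∃ (b : Cᵒᵖ ⥤ Type u) (ψ : a ⟶ b), Presieve.IsSheaf T b ∧
      (∀ V, Function.Injective (ψ.app V)) ∧
      ∃ pt : ∀ V : C, b.obj (op V),
        ∀ (V V' : C) (r : V' ⟶ V), b.map r.op (pt V) = pt V' := by
  let P' : Cᵒᵖ ⥤ Type u :=
    { obj := fun V => Option (a.obj V)
      map := fun f => ↾(Option.map (a.map f))
      map_id := fun V => by ext o; cases o <;> simp
      map_comp := fun f g => by ext o; cases o <;> simp }
  let some' : a ⟶ P' := { app := fun V => ↾some }
  refine ⟨CategoryTheory.sheafify T P', some' ≫ CategoryTheory.toSheafify T P',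
    (isSheaf_iff_isSheaf_of_type _ _).1 (((presheafToSheaf T (Type u)).obj P').property), ?_,
    fun V => (CategoryTheory.toSheafify T P').app (op V)
      (show P'.obj (op V) from (none : Option (a.obj (op V)))), ?_⟩
  rotate_left
  · intro V V' r
    have h9 := (CategoryTheory.toSheafify T P').naturality r.op
    exact (congrFun (congrArg
      (fun k : P'.obj (op V) ⟶ (CategoryTheory.sheafify T P').obj (op V') =>
        (fun z => k z : P'.obj (op V) → (CategoryTheory.sheafify T P').obj (op V'))) h9)
      (none : Option (a.obj (op V)))).symm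
  intro V x y e
  refine (ha.isSeparated (Presheaf.equalizerSieve (F := a) x y) ?_).ext fun W g hg => hg
  refine T.superset_covering (fun W g hg => ?_)
    (Presheaf.equalizerSieve_mem T (CategoryTheory.toSheafify T P')
      (some'.app V x) (some'.app V y) e)
  exact Option.some_injective _ hg

theorem isContinuous_fibre (hF : FibSite.IsPreFibSite F J) (hG : FibSite.IsPreFibSite G K)
    [(total α).IsContinuous (FibSite.totalTopology G K) (FibSite.totalTopology F J)] (S : 𝒮) :
    (fibFun α S).IsContinuous (K S) (J S) where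
  op_comp_isSheaf_of_types a := by
    classical
    have hcp := coverPreserving_fibre (K := K) (α := α) hF S
    have ha : Presieve.IsSheaf (J S) a.obj := (isSheaf_iff_isSheaf_of_type _ _).1 a.property
    obtain ⟨b, ψ, hb, hψ, pt, hpt⟩ := exists_pointed_embedding (J S) a.obj ha
    have hbα : Presieve.IsSheaf (K S) ((fibFun α S).op ⋙ b) :=
      isSheaf_comp_of_pointed hF hG S b hb pt hpt
    intro V R hR y hy
    have hA := hcp.cover_preserve hR
    obtain ⟨t, ht, -⟩ := hbα R hR (Presieve.FamilyOfElements.map y (Functor.whiskerLeft (fibFun α S).op ψ))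
      (Presieve.FamilyOfElements.Compatible.map _ hy)
    have key : ∀ (W : F.obj ⟨op S⟩) (g : W ⟶ (fibFun α S).obj V),
        (R.functorPushforward (fibFun α S)).arrows g →
          ∃ z, ψ.app (op W) z = b.map g.op t := by
      rintro W g ⟨Z, r, k, hr, rfl⟩
      refine ⟨a.obj.map k.op (y r hr), ?_⟩
      rw [op_comp, Functor.map_comp_apply, NatTrans.naturality_apply]
      exact congrArg (b.map k.op) (ht r hr).symm
    choose z hz using key
    obtain ⟨x, hx, -⟩ := ha _ hA z (fun W₁ W₂ W g₁ g₂ f₁ f₂ h₁ h₂ e => hψ _ (by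
      rw [NatTrans.naturality_apply, NatTrans.naturality_apply, hz, hz,
        ← Functor.map_comp_apply, ← Functor.map_comp_apply, ← op_comp, ← op_comp, e]))
    have hx' : ∀ {Z : G.obj ⟨op S⟩} (r : Z ⟶ V) (hr : R.arrows r),
        a.obj.map ((fibFun α S).map r).op x = y r hr := fun {Z} r hr => hψ _ (by
      rw [hx _ (Sieve.image_mem_functorPushforward _ _ hr), hz]
      exact ht r hr)
    refine ⟨x, fun Z r hr => hx' r hr, fun x' hx'' => ?_⟩
    refine (ha.isSeparated _ hA).ext ?_
    rintro W _ ⟨Z, r, k, hr, rfl⟩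
    rw [op_comp, Functor.map_comp_apply, Functor.map_comp_apply, hx' r hr]
    exact congrArg _ (hx'' r hr)

theorem morphismOfSites_fibre (hF : FibSite.IsPreFibSite F J) (hG : FibSite.IsPreFibSite G K)
    (hα : ∃ (_ : (total α).IsContinuous
        (FibSite.totalTopology G K) (FibSite.totalTopology F J))
      (_ : ((total α).sheafPushforwardContinuous (Type u)
        (FibSite.totalTopology G K) (FibSite.totalTopology F J)).IsRightAdjoint),
      PreservesFiniteLimits ((total α).sheafPullback (Type u)
        (FibSite.totalTopology G K) (FibSite.totalTopology F J))) (S : 𝒮) :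
    ∃ (_ : (fibFun α S).IsContinuous (K S) (J S))
      (_ : ((fibFun α S).sheafPushforwardContinuous (Type u) (K S) (J S)).IsRightAdjoint),
      PreservesFiniteLimits ((fibFun α S).sheafPullback (Type u) (K S) (J S)) := by
  obtain ⟨_, _, hle⟩ := hα
  have := isContinuous_fibre (α := α) hF hG S
  exact ⟨this, inferInstance, preservesFiniteLimits_sheafPullback
    (covFlat_fibre hF (covFlat_of_sheafPullback hle) S)⟩

end Groth.Agent.FibSiteLib
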