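import Groth.Agent.Lib.FibSite.Basic
import Groth.Agent.Lib.FibSite.CovFlat

/-!
# Covering flatness along a cartesian functor between fibred sites
-/

universe u

open CategoryTheory CategoryTheory.Limits Opposite Pseudofunctor Pseudofunctor.CoGrothendieck
open CategoryTheory.Bicategory
open scoped CategoryTheory.Pseudofunctor.StrongTrans

namespace Groth.Agent.FibSiteLib

variable {𝒮 : Type u} [SmallCategory 𝒮]
  {F G : Pseudofunctor (LocallyDiscrete 𝒮ᵒᵖ) Cat.{u, u}} (α : G ⟶ F)

/-- The fibre functor of a strong transformation. -/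
abbrev fibFun (S : 𝒮) : G.obj ⟨op S⟩ ⥤ F.obj ⟨op S⟩ := (α.app ⟨op S⟩).toFunctor

/-- The induced functor of total categories. -/
abbrev total : ∫ᶜ G ⥤ ∫ᶜ F := Pseudofunctor.CoGrothendieck.map α

set_option backward.defeqAttrib.useBackward true in
set_option backward.isDefEq.respectTransparency false in
theorem total_vert {S : 𝒮} {V V' : G.obj ⟨op S⟩} (r : V ⟶ V') :
    (total α).map ((ι G S).map r) = (ι F S).map ((fibFun α S).map r) := by
  ext
  · rfl
  · simp [ι, total, fibFun, Cat.Hom.comp_toFunctor, StrongTrans.naturality_id_hom_app,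
      Cat.Hom.id_toFunctor, ← Functor.map_comp_assoc, ← Cat.Hom₂.comp_app]

/-- The comparison isomorphism on fibres. -/
noncomputable def ιTotalIso (S : 𝒮) : fibFun α S ⋙ ι F S ≅ ι G S ⋙ total α :=
  NatIso.ofComponents (fun _ => Iso.refl _) (fun {V V'} r => by
    refine Eq.trans (Category.comp_id _) (Eq.trans ?_ (Category.id_comp _).symm)
    exact (total_vert α r).symm)

/-- The fibre component of the image of a cartesian morphism. -/
abbrev mcartFib {S : 𝒮} {X : ∫ᶜ G} (g : S ⟶ X.base) :
    (fibFun α S).obj ((FibSite.invImage G g).obj X.fiber) ⟶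
      (FibSite.invImage F g).obj ((fibFun α X.base).obj X.fiber) :=
  (α.naturality g.op.toLoc).hom.toNatTrans.app X.fiber

theorem mcart_eq {S : 𝒮} {X : ∫ᶜ G} (g : S ⟶ X.base) :
    (total α).map (cart g) = hom (X := (total α).obj X) g (mcartFib α g) := by
  refine CoGrothendieck.Hom.ext _ _ rfl ?_
  refine Eq.trans ?_ (Category.comp_id _).symm
  exact (congrArg (· ≫ mcartFib α g) ((fibFun α S).map_id _)).trans (Category.id_comp _)

instance isIso_mcartFib {S : 𝒮} {X : ∫ᶜ G} (g : S ⟶ X.base) : IsIso (mcartFib α g) :=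
  ⟨(α.naturality g.op.toLoc).inv.toNatTrans.app X.fiber,
    by rw [mcartFib, ← Cat.Hom₂.comp_app, Iso.hom_inv_id]; rfl,
    by rw [mcartFib, ← Cat.Hom₂.comp_app, Iso.inv_hom_id]; rfl⟩

theorem exists_fib {S : 𝒮} {W : F.obj ⟨op S⟩} {X : ∫ᶜ G} (h : (ι F S).obj W ⟶ (total α).obj X) :
    ∃ (g : S ⟶ X.base) (k : W ⟶ (fibFun α S).obj ((FibSite.invImage G g).obj X.fiber)),
      h = (ι F S).map k ≫ (total α).map (cart g) := by
  have key : ∀ (g : S ⟶ X.base)
      (φ : W ⟶ (FibSite.invImage F g).obj ((fibFun α X.base).obj X.fiber)),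
      hom (X := (total α).obj X) g φ =
        (ι F S).map (φ ≫ (α.naturality g.op.toLoc).inv.toNatTrans.app X.fiber) ≫
          (total α).map (cart g) := by
    intro g φ
    rw [mcart_eq]
    refine Eq.trans ?_ (vert_hom (φ ≫ (α.naturality g.op.toLoc).inv.toNatTrans.app X.fiber)
      (X := (total α).obj X) g (mcartFib α g)).symm
    refine congrArg (hom (X := (total α).obj X) g) ?_
    refine Eq.trans ?_ (Category.assoc _ _ _).symm
    exact (Category.comp_id φ).symm.trans (congrArg (φ ≫ ·)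
      ((Cat.Hom.toNatIso (α.naturality g.op.toLoc)).inv_hom_id_app X.fiber).symm)
  exact ⟨h.base, _, key h.base h.fiber⟩

theorem fib_inj {S : 𝒮} {W : F.obj ⟨op S⟩} {X : ∫ᶜ G} {g : S ⟶ X.base}
    {k k' : W ⟶ (fibFun α S).obj ((FibSite.invImage G g).obj X.fiber)}
    (h : (ι F S).map k ≫ (total α).map (cart g) = (ι F S).map k' ≫ (total α).map (cart g)) :
    k = k' := by
  rw [mcart_eq] at h
  have h' := ((vert_hom k (X := (total α).obj X) g (mcartFib α g)).symm.trans h).trans
    (vert_hom k' (X := (total α).obj X) g (mcartFib α g))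
  exact (cancel_mono (mcartFib α g)).1 (hom_injective h')

theorem base_of_comp {S : 𝒮} {W : F.obj ⟨op S⟩} {W' : F.obj ⟨op S⟩} {X : ∫ᶜ G}
    (m : W' ⟶ W) (h : (ι F S).obj W ⟶ (total α).obj X) :
    ((ι F S).map m ≫ h).base = h.base :=
  Category.id_comp _

variable {α} {J : FibSite.Topologies F}

theorem covFlat_total (hα : ∀ S, CovFlat (J S) (fibFun α S)) :
    CovFlat (FibSite.totalTopology F J) (total α) := by
  refine ⟨fun ⟨S, W⟩ => ?_, fun {U X₁ X₂} h₁ h₂ => ?_, fun {U X X'} h a b hab => ?_⟩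
  · refine loc_total ((hα S).cover W) fun W' g ⟨V, ⟨k⟩⟩ Y q => ?_
    exact ⟨(ι G S).obj V, ⟨q ≫ (ι F S).map k⟩⟩
  · obtain ⟨S, W⟩ := U
    obtain ⟨g₁, k₁, rfl⟩ := exists_fib α h₁
    obtain ⟨g₂, k₂, rfl⟩ := exists_fib α h₂
    refine loc_total ((hα S).prod k₁ k₂) fun W' g ⟨V, k, a₁, a₂, ha₁, ha₂⟩ Y q => ?_
    refine ⟨(ι G S).obj V, q ≫ (ι F S).map k, (ι G S).map a₁ ≫ cart g₁,
      (ι G S).map a₂ ≫ cart g₂, ?_, ?_⟩
    · have e := congrArg (ι F S).map ha₁
      rw [Functor.map_comp, Functor.map_comp] at e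
      simp only [Functor.map_comp, Category.assoc, total_vert]
      refine Eq.trans ?_ (Category.assoc _ _ _).symm
      exact congrArg (q ≫ ·) (((Category.assoc _ _ _).symm.trans
        (congrArg (· ≫ (total α).map (cart g₁)) e)).trans (Category.assoc _ _ _))
    · have e := congrArg (ι F S).map ha₂
      rw [Functor.map_comp, Functor.map_comp] at e
      simp only [Functor.map_comp, Category.assoc, total_vert]
      refine Eq.trans ?_ (Category.assoc _ _ _).symm
      exact congrArg (q ≫ ·) (((Category.assoc _ _ _).symm.trans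
        (congrArg (· ≫ (total α).map (cart g₂)) e)).trans (Category.assoc _ _ _))
  · obtain ⟨S, W⟩ := U
    obtain ⟨g, k, rfl⟩ := exists_fib α h
    obtain ⟨e, a', ha'⟩ : ∃ e a', cart g ≫ a = (ι G S).map a' ≫ cart e :=
      ⟨_, exists_vert_cart (cart g ≫ a)⟩
    obtain ⟨e', b', hb'⟩ : ∃ e b', cart g ≫ b = (ι G S).map b' ≫ cart e :=
      ⟨_, exists_vert_cart (cart g ≫ b)⟩
    have sh : ∀ {e : S ⟶ X'.base} {a : X ⟶ X'}
        {a' : (FibSite.invImage G g).obj X.fiber ⟶ (FibSite.invImage G e).obj X'.fiber},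
        cart g ≫ a = (ι G S).map a' ≫ cart e →
        (ι F S).map (k ≫ (fibFun α S).map a') ≫ (total α).map (cart e) =
          ((ι F S).map k ≫ (total α).map (cart g)) ≫ (total α).map a := fun {e a a'} h =>
      ((congrArg (· ≫ (total α).map (cart e)) (((ι F S).map_comp k ((fibFun α S).map a')).trans
        (congrArg ((ι F S).map k ≫ ·) (total_vert α a').symm))).trans
        (Category.assoc _ _ _)).trans ((congrArg ((ι F S).map k ≫ ·)
          (((total α).map_comp _ _).symm.trans ((congrArg (total α).map h).symm.trans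
            ((total α).map_comp _ _)))).trans (Category.assoc _ _ _).symm)
    have h3 := (sh ha').trans (hab.trans (sh hb').symm)
    obtain rfl : e = e' := by
      have hb := congrArg (fun t => ((forget F).map t)) h3
      simp only [Functor.map_comp] at hb
      have hb' : (𝟙 S ≫ 𝟙 S) ≫ e = (𝟙 S ≫ 𝟙 S) ≫ e' := hb
      simpa using hb'
    have h4 := fib_inj α h3
    refine loc_total ((hα S).equalize k a' b' h4) fun W' gg ⟨V₀, kk, c, hc, hk⟩ Y q => ?_
    refine ⟨(ι G S).obj V₀, q ≫ (ι F S).map kk, (ι G S).map c ≫ cart g, ?_, ?_⟩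
    · simp only [Category.assoc]
      rw [ha', hb', ← Category.assoc, ← Category.assoc, ← Functor.map_comp, ← Functor.map_comp, hc]
    · have e := congrArg (ι F S).map hk
      rw [Functor.map_comp, Functor.map_comp] at e
      simp only [Functor.map_comp, Category.assoc, total_vert]
      refine Eq.trans ?_ (Category.assoc _ _ _).symm
      exact congrArg (q ≫ ·) (((Category.assoc _ _ _).symm.trans
        (congrArg (· ≫ (total α).map (cart g)) e)).trans (Category.assoc _ _ _))

theorem covFlat_fibre (hF : FibSite.IsPreFibSite F J)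
    (hM : CovFlat (FibSite.totalTopology F J) (total α)) (S : 𝒮) :
    CovFlat (J S) (fibFun α S) := by
  refine ⟨fun W => ?_, fun {W V₁ V₂} h₁ h₂ => ?_, fun {W V V'} h a b hab => ?_⟩
  · refine (loc_fibre hF (hM.cover ((ι F S).obj W))).mono ?_
    rintro W' g ⟨X, ⟨k⟩⟩
    obtain ⟨g₀, k', -⟩ := exists_fib α k
    exact ⟨_, ⟨k'⟩⟩
  · refine (loc_fibre hF (hM.prod (V₁ := (ι G S).obj V₁) (V₂ := (ι G S).obj V₂)
      ((ι F S).map h₁) ((ι F S).map h₂))).mono ?_
    rintro W' g ⟨X, k, a₁, a₂, ha₁, ha₂⟩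
    obtain ⟨g₀, k', rfl⟩ := exists_fib α k
    have key : ∀ {V' : G.obj ⟨op S⟩} (a : X ⟶ (ι G S).obj V') (hh : W ⟶ (fibFun α S).obj V'),
        ((ι F S).map k' ≫ (total α).map (cart g₀)) ≫ (total α).map a =
          (ι F S).map g ≫ (ι F S).map hh →
        ∃ a' : (FibSite.invImage G g₀).obj X.fiber ⟶ V',
          k' ≫ (fibFun α S).map a' = g ≫ hh := by
      intro V' a hh e
      have hb : g₀ ≫ a.base = 𝟙 S := by
        have := congrArg (fun t => ((forget F).map t)) e
        simp only [Functor.map_comp] at this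
        exact ((Category.id_comp _).symm.trans ((Category.assoc _ _ _).symm.trans this)).trans
          (Category.id_comp _)
      obtain ⟨a', ha'⟩ := exists_vert (cart g₀ ≫ a) hb
      refine ⟨a', vert_injective (Eq.trans ?_ ((ι F S).map_comp g hh).symm)⟩
      exact ((((ι F S).map_comp k' _).trans (congrArg ((ι F S).map k' ≫ ·)
        ((total_vert α a').symm.trans ((congrArg (total α).map ha').trans
          ((total α).map_comp _ _))))).trans (Category.assoc _ _ _).symm).trans e
    obtain ⟨a₁', e₁⟩ := key a₁ h₁ ha₁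
    obtain ⟨a₂', e₂⟩ := key a₂ h₂ ha₂
    exact ⟨_, k', a₁', a₂', e₁, e₂⟩
  · refine (loc_fibre hF (hM.equalize (V := (ι G S).obj V) (V' := (ι G S).obj V')
      ((ι F S).map h) ((ι G S).map a) ((ι G S).map b) ?_)).mono ?_
    · rw [total_vert, total_vert]
      exact ((ι F S).map_comp _ _).symm.trans ((congrArg _ hab).trans ((ι F S).map_comp _ _))
    rintro W' g ⟨X, k, c, hc, hk⟩
    obtain ⟨g₀, k', rfl⟩ := exists_fib α k
    have hb : g₀ ≫ c.base = 𝟙 S := by
      have := congrArg (fun t => ((forget F).map t)) hk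
      simp only [Functor.map_comp] at this
      exact ((Category.id_comp _).symm.trans ((Category.assoc _ _ _).symm.trans this)).trans
        (Category.id_comp _)
    obtain ⟨c', hc'⟩ := exists_vert (cart g₀ ≫ c) hb
    refine ⟨_, k', c', vert_injective ?_,
      vert_injective (Eq.trans ?_ ((ι F S).map_comp g h).symm)⟩
    · rw [Functor.map_comp, Functor.map_comp, hc', Category.assoc, Category.assoc, hc]
    · exact ((((ι F S).map_comp k' _).trans (congrArg ((ι F S).map k' ≫ ·)
        ((total_vert α c').symm.trans ((congrArg (total α).map hc').trans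
          ((total α).map_comp _ _))))).trans (Category.assoc _ _ _).symm).trans hk

theorem covFlat_ι {F : Pseudofunctor (LocallyDiscrete 𝒮ᵒᵖ) Cat.{u, u}} {J : FibSite.Topologies F}
    {i : 𝒮} (hi : IsTerminal i)
    (hf : ∀ S : 𝒮, CovFlat (J S) (FibSite.invImage F (hi.from S))) :
    CovFlat (FibSite.totalTopology F J) (ι F i) := by
  have hh : ∀ {S : 𝒮} {W : F.obj ⟨op S⟩} {V : F.obj ⟨op i⟩} (h : (ι F S).obj W ⟶ (ι F i).obj V),
      ∃ k : W ⟶ (FibSite.invImage F (hi.from S)).obj V,
        h = hom (X := (ι F i).obj V) (hi.from S) k := by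
    intro S W V h
    obtain ⟨f, φ, rfl⟩ := exists_homι h
    obtain rfl := hi.hom_ext f (hi.from S)
    exact ⟨φ, rfl⟩
  refine ⟨fun ⟨S, W⟩ => ?_, fun {U V₁ V₂} h₁ h₂ => ?_, fun {U V V'} h a b hab => ?_⟩
  · refine loc_total ((hf S).cover W) fun W' g ⟨V, ⟨k⟩⟩ Y q => ?_
    exact ⟨V, ⟨q ≫ hom (X := (ι F i).obj V) (hi.from S) k⟩⟩
  · obtain ⟨S, W⟩ := U
    obtain ⟨k₁, rfl⟩ := hh (S := S) (W := W) h₁
    obtain ⟨k₂, rfl⟩ := hh (S := S) (W := W) h₂
    refine loc_total ((hf S).prod k₁ k₂) fun W' g ⟨V, k, a₁, a₂, e₁, e₂⟩ Y q => ?_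
    refine ⟨V, q ≫ hom (X := (ι F i).obj V) (hi.from S) k, a₁, a₂, ?_, ?_⟩
    · refine (Category.assoc _ _ _).trans (Eq.trans ?_ (Category.assoc _ _ _).symm)
      exact congrArg (q ≫ ·) (((hom_vert _ k a₁).trans (congrArg _ e₁)).trans
        (vert_hom g (X := (ι F i).obj V₁) _ k₁).symm)
    · refine (Category.assoc _ _ _).trans (Eq.trans ?_ (Category.assoc _ _ _).symm)
      exact congrArg (q ≫ ·) (((hom_vert _ k a₂).trans (congrArg _ e₂)).trans
        (vert_hom g (X := (ι F i).obj V₂) _ k₂).symm)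
  · obtain ⟨S, W⟩ := U
    obtain ⟨k, rfl⟩ := hh (S := S) (W := W) h
    have e := hom_injective ((hom_vert _ k a).symm.trans (hab.trans (hom_vert _ k b)))
    refine loc_total ((hf S).equalize k a b e) fun W' g ⟨V₀, kk, c, hc, hk⟩ Y q => ?_
    refine ⟨V₀, q ≫ hom (X := (ι F i).obj V₀) (hi.from S) kk, c, hc, ?_⟩
    refine (Category.assoc _ _ _).trans (Eq.trans ?_ (Category.assoc _ _ _).symm)
    exact congrArg (q ≫ ·) (((hom_vert _ kk c).trans (congrArg _ hk)).trans
      (vert_hom g (X := (ι F i).obj V) _ k).symm)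

/-- Continuity of the total functor from continuity on the fibres. -/
theorem isContinuous_total {K : FibSite.Topologies G} (hF : FibSite.IsPreFibSite F J)
    (hG : FibSite.IsPreFibSite G K) (h : ∀ S, (fibFun α S).IsContinuous (K S) (J S)) :
    (total α).IsContinuous (FibSite.totalTopology G K) (FibSite.totalTopology F J) := by
  rw [isContinuous_iff_fibre hG]
  intro S
  have := h S
  have := isContinuous_ι hF S
  exact Functor.isContinuous_comp' (ιTotalIso α S) (K S) (J S) (FibSite.totalTopology F J)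

theorem morphismOfSites_total {K : FibSite.Topologies G} (hF : FibSite.IsPreFibSite F J)
    (hG : FibSite.IsPreFibSite G K)
    (hα : ∀ S : 𝒮, ∃ (_ : (fibFun α S).IsContinuous (K S) (J S))
      (_ : ((fibFun α S).sheafPushforwardContinuous (Type u) (K S) (J S)).IsRightAdjoint),
      PreservesFiniteLimits ((fibFun α S).sheafPullback (Type u) (K S) (J S))) :
    ∃ (_ : (total α).IsContinuous (FibSite.totalTopology G K) (FibSite.totalTopology F J))
      (_ : ((total α).sheafPushforwardContinuous (Type u)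
        (FibSite.totalTopology G K) (FibSite.totalTopology F J)).IsRightAdjoint),
      PreservesFiniteLimits ((total α).sheafPullback (Type u)
        (FibSite.totalTopology G K) (FibSite.totalTopology F J)) := by
  have hc := isContinuous_total hF hG fun S => (hα S).1
  refine ⟨hc, inferInstance, preservesFiniteLimits_sheafPullback (covFlat_total fun S => ?_)⟩
  obtain ⟨_, _, hle⟩ := hα S
  exact covFlat_of_sheafPullback hle

theorem covFlat_invImage (hF : FibSite.IsFibSite F J) {R S : 𝒮} (f : R ⟶ S) :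
    CovFlat (J R) (FibSite.invImage F f) := by
  obtain ⟨_, _, hle⟩ := hF f
  exact covFlat_of_sheafPullback hle

end Groth.Agent.FibSiteLib
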